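import Cfsg.Agent.Mrg.Omega.NOne.LemmaT
import Cfsg.Agent.Mrg.Omega.FrameI
import Mathlib

section


/-!
# THEOREM FLAT: conjugation, offenders in module form, existence

* `Hyp.of_noOff`: `Hyp V F` from `∀ A ≤ N(V), ¬ OffM V A`;
* `Hyp.elemM_W`: `ElemM V (WW V F)`;
* `EE_conj`, `WW_conj`, `NN_conj`, `Bad.conj`, `Hyp.conj` (`m ∈ N(V)`);
* `exists_max`: a bad `F₀` is contained in a maximal bad `F`.
-/

set_option autoImplicit false

namespace Cfsg.Agent.Omega.NOne.Flat

open Subgroup Cfsg Cfsg.Agent.Omega.NoFF.Basic Cfsg.Agent.Omega.NOne.Frame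
open Cfsg.Agent.Omega.NOne.NearFF (Near c c_def)
open Cfsg.Agent.ZN (o2)
open Cfsg.Agent.MinSimple.VModule
open Cfsg.Agent.Omega.FFThm (ElemM OffM)
open scoped Pointwise

universe u

variable {G : Type u} [Group G]

/-- no offender in module form: the strict inequality -/
theorem noff_of_offM [Finite G] {V : Subgroup G}
    (hoff : ∀ A : Subgroup G, A ≤ normalizer (V : Set G) → ¬ OffM V A) (A : Subgroup G)
    (h1 : A ≤ normalizer (V : Set G)) (h2 : A ≤ centralizer (A : Set G)) (h3 : ∀ a ∈ A, a ^ 2 = 1)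
    (h4 : ¬ A ≤ centralizer (V : Set G)) :
    Nat.card A * Nat.card ↥(V ⊓ centralizer (A : Set G)) <
      Nat.card V * Nat.card ↥(A ⊓ centralizer (V : Set G)) := by
  by_contra hle
  refine hoff A h1 ⟨⟨fun a ha => ?_, fun a ha b hb => ?_⟩, h4, Nat.not_lt.1 hle⟩
  · rw [h3 a ha]; exact one_mem _
  · rw [comm_of_le_centralizer h2 ha hb, mul_inv_cancel_right, mul_inv_cancel]
    exact one_mem _

theorem Hyp.of_noOff [Finite G] {V F : Subgroup G} (comm : V ≤ centralizer (V : Set G))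
    (sq : ∀ w ∈ V, w ^ 2 = 1)
    (syl : ∀ D : Subgroup G, D ≠ ⊥ → D ≤ V → o2 (centralizer (D : Set G)) ≤ normalizer (V : Set G))
    (hoff : ∀ A : Subgroup G, A ≤ normalizer (V : Set G) → ¬ OffM V A)
    (char2 : centralizer (F : Set G) ⊓ centralizer (o2 (centralizer (F : Set G)) : Set G) ≤
      o2 (centralizer (F : Set G)))
    (bad : Bad V F) (max : ∀ D : Subgroup G, Bad V D → F ≤ D → D = F) : Hyp V F :=
  ⟨comm, sq, syl, noff_of_offM hoff, char2, bad, max⟩

theorem Hyp.elemM_W [Finite G] {V F : Subgroup G} (h : Hyp V F) : ElemM V (WW V F) :=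
  ⟨fun s hs => by
    rw [pow_two]
    exact h.comm (h.F_le_V (h.sq_W hs)), fun s hs t ht => h.comm (h.F_le_V (h.comm_WW hs ht))⟩

/-! ### conjugation by `N(V)` -/

theorem conj_eq_of_norm {m : G} {V : Subgroup G} (hm : m ∈ normalizer (V : Set G)) :
    MulAut.conj m • V = V := by
  ext z
  rw [mem_conj]
  constructor
  · intro hz
    have := norm_mem hm hz
    have e : m * (m⁻¹ * z * m) * m⁻¹ = z := by group
    rwa [e] at this
  · exact fun hz => norm_mem' hm hz

theorem EE_conj {V F : Subgroup G} {m : G} (hm : m ∈ normalizer (V : Set G)) :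
    MulAut.conj m • EE V F = EE V (MulAut.conj m • F) := by
  rw [EE, Subgroup.smul_inf, conj_eq_of_norm hm, o2_conj, conj_centralizer]

theorem WW_conj {V F : Subgroup G} {m : G} (hm : m ∈ normalizer (V : Set G)) :
    MulAut.conj m • WW V F = WW V (MulAut.conj m • F) := by
  have key : ∀ (n : G) (D : Subgroup G), n ∈ normalizer (V : Set G) →
      MulAut.conj n • WW V D ≤ WW V (MulAut.conj n • D) := by
    intro n D hn
    have h1 : WW V D ≤ MulAut.conj n⁻¹ • WW V (MulAut.conj n • D) := by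
      refine V_le fun x hx => ?_
      have h2 : n * x * n⁻¹ ∈ centralizer ((MulAut.conj n • D : Subgroup G) : Set G) := by
        rw [← conj_centralizer]
        exact Frame.conj_mem hx
      have h3 : MulAut.conj (n * x * n⁻¹) • EE V (MulAut.conj n • D) ≤ WW V (MulAut.conj n • D) :=
        Z_le_V h2
      have h4 := conj_le_iff (g := n⁻¹) |>.2 h3
      rw [← EE_conj hn, conj_conj, conj_conj] at h4
      have e : n⁻¹ * (n * x * n⁻¹) * n = x := by group
      rwa [e] at h4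
    have h2 := conj_le_iff (g := n) |>.2 h1
    rwa [conj_conj, mul_inv_cancel, map_one, one_smul] at h2
  refine le_antisymm (key m F hm) ?_
  have h1 := key m⁻¹ (MulAut.conj m • F) (inv_mem hm)
  have h2 := conj_le_iff (g := m) |>.2 h1
  rwa [conj_conj, conj_conj, mul_inv_cancel, inv_mul_cancel, map_one, one_smul, one_smul] at h2

theorem NN_conj {V F : Subgroup G} {m : G} (hm : m ∈ normalizer (V : Set G)) :
    MulAut.conj m • NN V F = NN V (MulAut.conj m • F) := by
  rw [NN, Subgroup.smul_inf, WW_conj hm, conj_centralizer, EE_conj hm]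

theorem Bad.conj {V F : Subgroup G} (h : Bad V F) {m : G} (hm : m ∈ normalizer (V : Set G)) :
    Bad V (MulAut.conj m • F) where
  ne := by
    intro h0
    apply h.ne
    have := congrArg (fun A : Subgroup G => MulAut.conj m⁻¹ • A) h0
    simp only [conj_conj, inv_mul_cancel, map_one, one_smul, Subgroup.smul_bot] at this
    exact this
  le := by
    have := conj_le_iff (g := m) |>.2 h.le
    rwa [conj_eq_of_norm hm] at this
  not_le := by
    intro h1
    apply h.not_le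
    rw [← conj_centralizer, ← o2_conj] at h1
    have h2 := conj_le_iff (g := m⁻¹) |>.2 h1
    rwa [conj_conj, inv_mul_cancel, map_one, one_smul, conj_eq_of_norm (inv_mem hm)] at h2

theorem Hyp.conj {V F : Subgroup G} (h : Hyp V F) {m : G} (hm : m ∈ normalizer (V : Set G)) :
    Hyp V (MulAut.conj m • F) where
  comm := h.comm
  sq := h.sq
  syl := h.syl
  noff := h.noff
  char2 := by
    rw [← conj_centralizer, ← o2_conj, ← conj_centralizer, ← Subgroup.smul_inf]
    exact conj_le_iff.2 h.char2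
  bad := h.bad.conj hm
  max := by
    intro D hD hFD
    have h1 := h.max _ (hD.conj (inv_mem hm)) (by
      have := conj_le_iff (g := m⁻¹) |>.2 hFD
      rwa [conj_conj, inv_mul_cancel, map_one, one_smul] at this)
    rw [← h1, conj_conj, mul_inv_cancel, map_one, one_smul]

/-! ### existence -/

/-- A bad `F₀` is contained in a maximal bad `F`. -/
theorem exists_max [Finite G] {V F₀ : Subgroup G} (h₀ : Bad V F₀) :
    ∃ F : Subgroup G, F₀ ≤ F ∧ Bad V F ∧ ∀ D : Subgroup G, Bad V D → F ≤ D → D = F := by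
  obtain ⟨F, ⟨hF1, hF2⟩, hmax⟩ := Set.exists_max_image {F : Subgroup G | F₀ ≤ F ∧ Bad V F}
    (fun F => Nat.card F) (Set.toFinite _) ⟨F₀, le_rfl, h₀⟩
  refine ⟨F, hF1, hF2, fun D hD hFD => ?_⟩
  exact (Subgroup.eq_of_le_of_card_ge hFD (hmax D ⟨hF1.trans hFD, hD⟩)).symm

/-- A bad `F₀` gives `Hyp V F` for some `F ≥ F₀`. -/
theorem exists_hyp [Finite G] {V F₀ : Subgroup G} (comm : V ≤ centralizer (V : Set G))
    (sq : ∀ w ∈ V, w ^ 2 = 1)
    (syl : ∀ D : Subgroup G, D ≠ ⊥ → D ≤ V → o2 (centralizer (D : Set G)) ≤ normalizer (V : Set G))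
    (hoff : ∀ A : Subgroup G, A ≤ normalizer (V : Set G) → ¬ OffM V A)
    (char2 : ∀ D : Subgroup G, D ≠ ⊥ → D ≤ V → centralizer (D : Set G) ⊓
      centralizer (o2 (centralizer (D : Set G)) : Set G) ≤ o2 (centralizer (D : Set G)))
    (h₀ : Bad V F₀) : ∃ F : Subgroup G, F₀ ≤ F ∧ Hyp V F := by
  obtain ⟨F, h1, h2, h3⟩ := exists_max h₀
  exact ⟨F, h1, Hyp.of_noOff comm sq syl hoff (char2 F h2.ne h2.le) h2 h3⟩

end Cfsg.Agent.Omega.NOne.Flat

end

section


/-!
# A section `N / D` with the action of `H`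
-/

set_option autoImplicit false

namespace Cfsg.Agent.Omega.NOne.Flat

open Subgroup
open scoped Pointwise

universe u v

variable {G : Type u} [Group G]

/-- The section `M = N / D` with the action of `H` by conjugation. -/
structure Sect (H N D : Subgroup G) (M : Type v) [Group M] where
  π : N →* M
  surj : Function.Surjective π
  ker : ∀ n : N, π n = 1 ↔ (n : G) ∈ D
  nN : ∀ h ∈ H, ∀ n ∈ N, h * n * h⁻¹ ∈ N
  ρ : H →* MulAut M
  ρπ : ∀ (h : H) (n : N), ρ h (π n) = π ⟨h * n * (h : G)⁻¹, nN h h.2 n n.2⟩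

/-- Sections exist. -/
theorem exists_sect {H N D : Subgroup G} (hDN : ∀ n ∈ N, ∀ d ∈ D, n * d * n⁻¹ ∈ D)
    (hN : ∀ h ∈ H, ∀ n ∈ N, h * n * h⁻¹ ∈ N) (hD : ∀ h ∈ H, ∀ d ∈ D, h * d * h⁻¹ ∈ D) :
    ∃ (M : Type u) (_ : Group M), Nonempty (Sect H N D M) := by
  have hn : (D.subgroupOf N).Normal := ⟨fun d hd n => by
    rw [mem_subgroupOf] at hd ⊢
    exact hDN n n.2 d hd⟩
  let act : H → (N ⧸ D.subgroupOf N) → (N ⧸ D.subgroupOf N) := fun h =>
    Quotient.map' (fun n : N => (⟨h * n * (h : G)⁻¹, hN h h.2 n n.2⟩ : N)) (by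
      intro a b hab
      rw [QuotientGroup.leftRel_apply, mem_subgroupOf] at hab ⊢
      have h1 := hD h h.2 _ hab
      push_cast at h1 ⊢
      have e : (↑h * ↑a * (h : G)⁻¹)⁻¹ * (↑h * ↑b * (h : G)⁻¹) = h * ((a : G)⁻¹ * b) * (h : G)⁻¹ := by
        group
      rw [e]
      exact h1)
  have act_mk : ∀ (h : H) (n : N), act h (QuotientGroup.mk n) =
      QuotientGroup.mk (⟨h * n * (h : G)⁻¹, hN h h.2 n n.2⟩ : N) := fun h n => rfl
  have act_one : ∀ q, act 1 q = q := by
    intro q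
    induction q using QuotientGroup.induction_on with
    | H n =>
      rw [act_mk]
      congr 1
      apply Subtype.ext
      simp
  have act_mul : ∀ h h' q, act (h * h') q = act h (act h' q) := by
    intro h h' q
    induction q using QuotientGroup.induction_on with
    | H n =>
      rw [act_mk, act_mk, act_mk]
      congr 1
      apply Subtype.ext
      simp [mul_assoc]
  let ρ0 : H → MulAut (N ⧸ D.subgroupOf N) := fun h =>
    { toFun := act h
      invFun := act h⁻¹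
      left_inv := fun q => by rw [← act_mul, inv_mul_cancel, act_one]
      right_inv := fun q => by rw [← act_mul, mul_inv_cancel, act_one]
      map_mul' := by
        intro q q'
        induction q using QuotientGroup.induction_on with
        | H n =>
          induction q' using QuotientGroup.induction_on with
          | H n' =>
            rw [← QuotientGroup.mk_mul, act_mk, act_mk, act_mk, ← QuotientGroup.mk_mul]
            congr 1
            apply Subtype.ext
            simp [mul_assoc] }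
  refine ⟨N ⧸ D.subgroupOf N, inferInstance, ⟨{
    π := QuotientGroup.mk' _
    surj := QuotientGroup.mk'_surjective _
    ker := fun n => by rw [QuotientGroup.mk'_apply, QuotientGroup.eq_one_iff, mem_subgroupOf]
    nN := hN
    ρ :=
      { toFun := ρ0
        map_one' := by ext q; exact act_one q
        map_mul' := fun h h' => by ext q; exact act_mul h h' q }
    ρπ := fun h n => rfl }⟩⟩

namespace Sect

variable {H N D : Subgroup G} {M : Type v} [Group M] (s : Sect H N D M)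

/-- The image of a subgroup of `N`. -/
def B (K : Subgroup G) : Subgroup M := (K.subgroupOf N).map s.π

/-- The group of automorphisms of `M` induced by a subgroup of `H`. -/
def A (K : Subgroup G) : Subgroup (MulAut M) := (K.subgroupOf H).map s.ρ

theorem π_eq_iff {a b : N} : s.π a = s.π b ↔ (a : G)⁻¹ * b ∈ D := by
  have h1 : s.π a = s.π b ↔ s.π (a⁻¹ * b) = 1 := by rw [map_mul, map_inv, inv_mul_eq_one]
  rw [h1, s.ker]
  push_cast
  rfl

theorem mem_B {K : Subgroup G} (hDK : D ≤ K) {n : N} : s.π n ∈ s.B K ↔ (n : G) ∈ K := by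
  constructor
  · rintro ⟨m, hm, hmn⟩
    have h1 := s.π_eq_iff.1 hmn
    have h2 : (n : G) = m * ((m : G)⁻¹ * n) := by group
    rw [h2]
    exact mul_mem hm (hDK h1)
  · intro h
    exact ⟨n, h, rfl⟩

theorem B_le_B {K K' : Subgroup G} (h : K ≤ K') : s.B K ≤ s.B K' :=
  Subgroup.map_mono fun _ hk => h hk

theorem B_inj {K K' : Subgroup G} (hDK : D ≤ K) (hK : K ≤ N) (hDK' : D ≤ K') (hK' : K' ≤ N)
    (h : s.B K = s.B K') : K = K' := by
  apply le_antisymm
  · intro k hk
    have h1 : s.π ⟨k, hK hk⟩ ∈ s.B K' := by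
      rw [← h, s.mem_B hDK]
      exact hk
    exact (s.mem_B hDK').1 h1
  · intro k hk
    have h1 : s.π ⟨k, hK' hk⟩ ∈ s.B K := by
      rw [h, s.mem_B hDK']
      exact hk
    exact (s.mem_B hDK).1 h1

theorem B_inf {K K' : Subgroup G} (hDK' : D ≤ K') : s.B K ⊓ s.B K' = s.B (K ⊓ K') := by
  apply le_antisymm
  · rintro _ ⟨⟨k, hk, rfl⟩, hk'⟩
    have h1 := (s.mem_B hDK').1 hk'
    exact ⟨k, mem_inf.2 ⟨hk, h1⟩, rfl⟩
  · exact le_inf (s.B_le_B inf_le_left) (s.B_le_B inf_le_right)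

theorem B_sup {K K' : Subgroup G} (hK : K ≤ N) (hK' : K' ≤ N) : s.B K ⊔ s.B K' = s.B (K ⊔ K') := by
  rw [B, B, B, ← Subgroup.map_sup, Subgroup.subgroupOf_sup hK hK']

theorem B_D : s.B D = ⊥ := by
  rw [eq_bot_iff]
  rintro _ ⟨n, hn, rfl⟩
  exact mem_bot.2 ((s.ker n).2 hn)

theorem B_N : s.B N = ⊤ := by
  rw [eq_top_iff]
  intro m _
  obtain ⟨n, rfl⟩ := s.surj m
  exact ⟨n, n.2, rfl⟩

theorem card_B {K : Subgroup G} (hK : K ≤ N) : Nat.card (s.B K) = D.relIndex K := by
  have h1 : (s.π.comp (inclusion hK)).range = s.B K := by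
    ext m
    constructor
    · rintro ⟨k, rfl⟩
      exact ⟨inclusion hK k, k.2, rfl⟩
    · rintro ⟨k, hk, rfl⟩
      exact ⟨⟨k, hk⟩, rfl⟩
  have h2 : (s.π.comp (inclusion hK)).ker = D.subgroupOf K := by
    ext k
    rw [MonoidHom.mem_ker, MonoidHom.comp_apply, s.ker, mem_subgroupOf]
    rfl
  rw [← h1, ← index_ker, h2]
  rfl

theorem ρ_eq_iff {a b : H} : s.ρ a = s.ρ b ↔
    ∀ n ∈ N, (a * n * (a : G)⁻¹)⁻¹ * (b * n * (b : G)⁻¹) ∈ D := by
  constructor
  · intro h n hn
    have h1 : s.ρ a (s.π ⟨n, hn⟩) = s.ρ b (s.π ⟨n, hn⟩) := by rw [h]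
    rw [s.ρπ, s.ρπ, s.π_eq_iff] at h1
    exact h1
  · intro h
    ext m
    obtain ⟨n, rfl⟩ := s.surj m
    rw [s.ρπ, s.ρπ, s.π_eq_iff]
    exact h n n.2

theorem ρ_eq_one_iff {a : H} : s.ρ a = 1 ↔ ∀ n ∈ N, a * n * (a : G)⁻¹ * n⁻¹ ∈ D := by
  constructor
  · intro h n hn
    have h1 : s.ρ a (s.π ⟨n⁻¹, inv_mem hn⟩) = s.π ⟨n⁻¹, inv_mem hn⟩ := by rw [h]; rfl
    rw [s.ρπ, s.π_eq_iff] at h1
    have e : ((⟨a * n⁻¹ * (a : G)⁻¹, s.nN a a.2 _ (inv_mem hn)⟩ : N) : G)⁻¹ * ((⟨n⁻¹, inv_mem hn⟩ : N) : G) =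
        a * n * (a : G)⁻¹ * n⁻¹ := by
      change (a * n⁻¹ * (a : G)⁻¹)⁻¹ * n⁻¹ = _
      group
    rwa [e] at h1
  · intro h
    ext m
    obtain ⟨n, rfl⟩ := s.surj m
    rw [s.ρπ]
    change _ = s.π n
    rw [s.π_eq_iff]
    have h2 := h _ (inv_mem n.2)
    have e : ((⟨a * n * (a : G)⁻¹, s.nN a a.2 _ n.2⟩ : N) : G)⁻¹ * (n : G) =
        a * (n : G)⁻¹ * (a : G)⁻¹ * ((n : G)⁻¹)⁻¹ := by
      change ((a : G) * (n : G) * (a : G)⁻¹)⁻¹ * (n : G) = _
      group
    rw [e]
    exact h2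

theorem B_map (h : H) (K : Subgroup G) :
    (s.B K).map (s.ρ h : M ≃* M).toMonoidHom = s.B (MulAut.conj (h : G) • K) := by
  apply le_antisymm
  · rintro _ ⟨_, ⟨k, hk, rfl⟩, rfl⟩
    refine ⟨⟨h * k * (h : G)⁻¹, s.nN h h.2 k k.2⟩, ?_, (s.ρπ h k).symm⟩
    exact Subgroup.smul_mem_pointwise_smul _ _ _ hk
  · rintro _ ⟨n, hn, rfl⟩
    have hn' : (n : G) ∈ MulAut.conj (h : G) • K := hn
    obtain ⟨k, hk, hkn⟩ := (Subgroup.mem_smul_pointwise_iff_exists _ _ _).1 hn'
    have hkN : k ∈ N := by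
      have e : k = (h : G)⁻¹ * n * (h : G)⁻¹⁻¹ := by
        rw [← hkn]
        change k = (h : G)⁻¹ * (h * k * (h : G)⁻¹) * (h : G)⁻¹⁻¹
        group
      rw [e]
      exact s.nN _ (inv_mem h.2) n n.2
    refine ⟨s.π ⟨k, hkN⟩, ⟨⟨k, hkN⟩, hk, rfl⟩, ?_⟩
    change s.ρ h (s.π ⟨k, hkN⟩) = s.π n
    rw [s.ρπ]
    congr 1
    exact Subtype.ext hkn

theorem A_map (h : H) (K : Subgroup G) :
    (s.A K).map (MulAut.conj (s.ρ h)).toMonoidHom = s.A (MulAut.conj (h : G) • K) := by
  apply le_antisymm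
  · rintro _ ⟨_, ⟨k, hk, rfl⟩, rfl⟩
    refine ⟨h * k * h⁻¹, ?_, ?_⟩
    · exact Subgroup.smul_mem_pointwise_smul _ _ _ hk
    · rw [map_mul, map_mul, map_inv]
      rfl
  · rintro _ ⟨n, hn, rfl⟩
    have hn' : (n : G) ∈ MulAut.conj (h : G) • K := hn
    obtain ⟨k, hk, hkn⟩ := (Subgroup.mem_smul_pointwise_iff_exists _ _ _).1 hn'
    have e : ((h⁻¹ * n * h : H) : G) = k := by
      push_cast
      rw [← hkn]
      change (h : G)⁻¹ * (h * k * (h : G)⁻¹) * h = k
      group
    refine ⟨s.ρ (h⁻¹ * n * h), ⟨h⁻¹ * n * h, ?_, rfl⟩, ?_⟩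
    · rw [SetLike.mem_coe, mem_subgroupOf, e]
      exact hk
    · change s.ρ h * s.ρ (h⁻¹ * n * h) * (s.ρ h)⁻¹ = s.ρ n
      rw [← map_inv, ← map_mul, ← map_mul]
      congr 1
      group

theorem A_sup {K K' : Subgroup G} (hK : K ≤ H) (hK' : K' ≤ H) : s.A K ⊔ s.A K' = s.A (K ⊔ K') := by
  rw [A, A, A, ← Subgroup.map_sup, Subgroup.subgroupOf_sup hK hK']

theorem card_A {K K' : Subgroup G} (hK : K ≤ H)
    (h1 : ∀ k (hk : k ∈ K), s.ρ ⟨k, hK hk⟩ = 1 ↔ k ∈ K') : Nat.card (s.A K) = K'.relIndex K := by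
  have h2 : (s.ρ.comp (inclusion hK)).range = s.A K := by
    ext m
    constructor
    · rintro ⟨k, rfl⟩
      exact ⟨inclusion hK k, k.2, rfl⟩
    · rintro ⟨k, hk, rfl⟩
      exact ⟨⟨k, hk⟩, rfl⟩
  have h3 : (s.ρ.comp (inclusion hK)).ker = K'.subgroupOf K := by
    ext k
    rw [MonoidHom.mem_ker, MonoidHom.comp_apply, mem_subgroupOf]
    exact h1 k k.2
  rw [← h2, ← index_ker, h3]
  rfl

end Sect

end Cfsg.Agent.Omega.NOne.Flat

end

section


/-!
# THEOREM FIELD (#15909), the abstract interface between (F1), (F2) and (F3), (F4)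

`M` an elementary abelian 2-group, `M = B₁ × B₂`, `Aᵢ ≤ Aut(M)` an elementary abelian 2-group with
`[M, a] ≤ Bᵢ = C_M(a)` for `1 ≠ a ∈ Aᵢ`; for `y ∈ L = ⟨A₁, A₂⟩` either `Bᵢ^y = Bⱼ`, and then `Aᵢ^y = Aⱼ`,
or `Bᵢ^y ∩ Bⱼ = 1`.
-/

set_option autoImplicit false

namespace Cfsg.Agent.Omega.NOne.Flat

/-- The data of THEOREM FIELD: `i = false` is `E / F`, `V`; `i = true` is `E^x / F`, `V^x`. -/
structure Spr {M : Type*} [Group M] (B : Bool → Subgroup M) (A : Bool → Subgroup (MulAut M)) : Prop where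
  comm : ∀ m n : M, m * n = n * m
  sq : ∀ m : M, m * m = 1
  disj : B false ⊓ B true = ⊥
  sup : B false ⊔ B true = ⊤
  card : Nat.card (B false) = Nat.card (B true)
  ne : ∀ i, B i ≠ ⊥
  Acomm : ∀ i, ∀ a ∈ A i, ∀ b ∈ A i, a * b = b * a
  Asq : ∀ i, ∀ a ∈ A i, a * a = 1
  Acard : Nat.card (A false) = Nat.card (A true)
  Ane : ∀ i, A i ≠ ⊥
  fix : ∀ i, ∀ a ∈ A i, ∀ m ∈ B i, a m = m
  into : ∀ i, ∀ a ∈ A i, ∀ m : M, a m * m⁻¹ ∈ B i
  free : ∀ i, ∀ a ∈ A i, a ≠ 1 → ∀ m : M, a m = m → m ∈ B i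
  spread : ∀ i j, ∀ y ∈ A false ⊔ A true,
    (B i).map (y : M ≃* M).toMonoidHom = B j ∨ (B i).map (y : M ≃* M).toMonoidHom ⊓ B j = ⊥
  stab : ∀ i j, ∀ y ∈ A false ⊔ A true, (B i).map (y : M ≃* M).toMonoidHom = B j →
    (A i).map (MulAut.conj y).toMonoidHom = A j

end Cfsg.Agent.Omega.NOne.Flat

end

section


/-!
# THEOREM FIELD (#15909, helper723), (F1) and (F2)

`x ∈ X` bad, `EX = E E^x`; `Good g`: `E^g ≤ EX`, `V^g` normalises `EX`, `C_{EX / F}(w) ≤ E^g / F` for
`w ∈ V^g - E^g`.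

* `Good.dich` (F1): `E^g = E^{g'}` or `E^g ∩ E^{g'} = F`;
* `Hyp.comm_conj_mem` (F2): `v^c` and `v` induce the same map on `W / F` for `c ∈ C_G(E)`;
* `Hyp.exists_spr`: the instance of `Spr` on `EX / F`.
-/

set_option autoImplicit false

namespace Cfsg.Agent.Omega.NOne.Flat

open Subgroup Cfsg Cfsg.Agent.Omega.NoFF.Basic Cfsg.Agent.Omega.NOne.Frame
open Cfsg.Agent.Omega.NOne.NearFF (Near c c_def)
open Cfsg.Agent.ZN (o2)
open Cfsg.Agent.MinSimple.VModule
open scoped Pointwise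

universe u

variable {G : Type u} [Group G]

/-- `E E^x` -/
abbrev EX (V F : Subgroup G) (x : G) : Subgroup G := EE V F ⊔ MulAut.conj x • EE V F

/-- `C_{EX / F}(w) ≤ E^g / F` for `w ∈ V^g - E^g` -/
structure Good (V F : Subgroup G) (x g : G) : Prop where
  gX : g ∈ centralizer (F : Set G)
  le : MulAut.conj g • EE V F ≤ EX V F x
  norm : MulAut.conj g • V ≤ normalizer (EX V F x : Set G)
  reg : ∀ m ∈ EX V F x, ∀ w ∈ MulAut.conj g • V, w ∉ MulAut.conj g • EE V F → c w m ∈ F →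
    m ∈ MulAut.conj g • EE V F

namespace Hyp

variable {V F : Subgroup G} (h : Hyp V F)
include h

/-- **(F2)**, the computation: `c ∈ C_G(E)`, `v ∈ V`: `[v^c, s] = [v, s]` modulo `F`. -/
theorem comm_conj_mem [Finite G] {g v s : G} (hg : g ∈ centralizer (EE V F : Set G)) (hv : v ∈ V)
    (hs : s ∈ WW V F) : (c v s)⁻¹ * c (g * v * g⁻¹) s ∈ F := by
  have hgX : g ∈ centralizer (F : Set G) := centralizer_le h.F_le_E hg
  have hs' : g⁻¹ * s * g ∈ WW V F := by
    have := conj_mem_W (inv_mem hgX) hs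
    rwa [inv_inv] at this
  have hgE : ∀ e ∈ EE V F, g * e * g⁻¹ = e := fun e he => by
    rw [← mem_centralizer_iff.1 hg e he, mul_inv_cancel_right]
  have hn : s⁻¹ * (g⁻¹ * s * g) ∈ NN V F := by
    refine mem_inf.2 ⟨mul_mem (inv_mem hs) hs', ?_⟩
    rw [mem_centralizer_iff]
    intro e he
    have h1 : c e (g⁻¹ * s * g) = c e s := by
      have h2 : g⁻¹ * c e s * g = c e s := by
        rw [mul_assoc, F_comm (h.comm_EW he hs) hgX, inv_mul_cancel_left]
      have h3 : c e (g⁻¹ * s * g) = g⁻¹ * c (g * e * g⁻¹) s * g := by rw [c, c]; group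
      rw [h3, hgE e he, h2]
    have h4 : c e (s⁻¹ * (g⁻¹ * s * g)) = 1 := by
      rw [h.c_mul_right' he (inv_mem hs) hs', h1, ← h.c_mul_right' he (inv_mem hs) hs, inv_mul_cancel,
        c_one_right]
    calc e * (s⁻¹ * (g⁻¹ * s * g)) = c e (s⁻¹ * (g⁻¹ * s * g)) * (s⁻¹ * (g⁻¹ * s * g) * e) := by
          rw [c_def]; group
      _ = s⁻¹ * (g⁻¹ * s * g) * e := by rw [h4, one_mul]
  have h5 : c (g * v * g⁻¹) s = c v (g⁻¹ * s * g) := by
    have h6 : c (g * v * g⁻¹) s = g * c v (g⁻¹ * s * g) * g⁻¹ := by rw [c, c]; group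
    rw [h6, hgE _ (h.c_memE hv hs')]
  rw [h5, h.c_iff hv hs hs']
  exact h.c_mem_F hv hn

/-- a fixed point of a 2-group on `E E^x / F` -/
theorem exists_fix' [Finite G] {x : G} (hx : x ∈ centralizer (F : Set G)) {P : Subgroup G}
    (hP : IsPGroup 2 P) (hPn : P ≤ normalizer (EX V F x : Set G)) (hPX : P ≤ centralizer (F : Set G)) :
    ∃ n ∈ EX V F x, n ∉ F ∧ ∀ y ∈ P, c y n ∈ F := by
  have : Fact (Nat.Prime 2) := ⟨Nat.prime_two⟩
  have hMX : EX V F x ≤ centralizer (F : Set G) := (EEx_le_W hx).trans W_le_X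
  have hM2 : IsPGroup 2 (EX V F x) := W_isPGroup.to_le (EEx_le_W hx)
  have hY : IsPGroup 2 (P ⊔ EX V F x : Subgroup G) := IsPGroup.to_sup_of_normal_right' hP hM2 hPn
  have hYn : P ⊔ EX V F x ≤ normalizer (EX V F x : Set G) := sup_le hPn le_normalizer
  have hYX : P ⊔ EX V F x ≤ centralizer (F : Set G) := sup_le hPX hMX
  obtain ⟨e0, he0, he0F⟩ := SetLike.not_le_iff_exists.1 (not_le_of_gt h.F_lt_E)
  obtain ⟨n, hn, hnF, hfix⟩ := GTwoFour.Tools.exists_fixed_mod (M := F) hY le_sup_right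
    (fun y hy n hn => norm_mem (hYn hy) hn)
    (fun y hy m hm => norm_mem (X_norm_F (hYX hy)) hm) ⟨e0, mem_sup_left he0, he0F⟩
  exact ⟨n, hn, hnF, fun y hy => hfix y (mem_sup_left hy)⟩

theorem good_one [Finite G] {x : G} (hx : x ∈ centralizer (F : Set G)) (hb : BadX V x) : Good V F x 1 where
  gX := one_mem _
  le := by rw [map_one, one_smul]; exact le_sup_left
  norm := by
    rw [map_one, one_smul]
    exact le_sup_left.trans (h.sup_norm_EEx hx)
  reg := by
    rw [map_one, one_smul, one_smul]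
    intro m hm w hw hwE hc
    obtain ⟨e, he, f, hf, rfl⟩ := h.mem_EEx hx hm
    exact mul_mem he (h.F_le_E (h.reg hx hb hw hwE he hf hc))

theorem good_self [Finite G] {x : G} (hx : x ∈ centralizer (F : Set G)) (hb : BadX V x) : Good V F x x where
  gX := hx
  le := le_sup_right
  norm := le_sup_right.trans (h.sup_norm_EEx hx)
  reg := by
    intro m hm w hw hwE hc
    have hmW : m ∈ WW V F := EEx_le_W hx hm
    have h1 : m ∈ MulAut.conj x • NN V F := by
      rw [mem_conj] at hw hwE ⊢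
      have hm' : x⁻¹ * m * x ∈ WW V F := by
        have := conj_mem_W (inv_mem hx) hmW
        rwa [inv_inv] at this
      rw [← h.c_mem_F_iff hw hwE hm']
      have h2 := norm_mem' (X_norm_F hx) hc
      have e : x⁻¹ * c w m * x = c (x⁻¹ * w * x) (x⁻¹ * m * x) := by rw [c, c]; group
      rwa [e] at h2
    obtain ⟨e, he, f, hf, rfl⟩ := h.mem_EEx hx hm
    have h2 : e ∈ F := by
      rw [← h.E_inf_conjNN hx hb]
      exact mem_inf.2 ⟨he, (mul_mem_cancel_right (h.conjE_le_conjNN hx hf)).1 h1⟩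
    exact mul_mem (h.F_le_conjE hx h2) hf

end Hyp

theorem Good.mul {V F : Subgroup G} {x g l : G} (hg : Good V F x g)
    (hl : l ∈ normalizer (EX V F x : Set G)) (hlX : l ∈ centralizer (F : Set G)) : Good V F x (l * g) where
  gX := mul_mem hlX hg.gX
  le := by
    have := conj_le_iff (g := l) |>.2 hg.le
    rwa [conj_conj, conj_eq_of_norm hl] at this
  norm := by
    intro w hw
    rw [← conj_conj, mem_conj] at hw
    have h1 := hg.norm hw
    have e : w = l * (l⁻¹ * w * l) * l⁻¹ := by group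
    rw [e]
    exact mul_mem (mul_mem hl h1) (inv_mem hl)
  reg := by
    intro m hm w hw hwE hc
    rw [← conj_conj, mem_conj] at hw hwE ⊢
    refine hg.reg _ (norm_mem' hl hm) _ hw hwE ?_
    have h2 := norm_mem' (Hyp.X_norm_F hlX) hc
    have e : l⁻¹ * c w m * l = c (l⁻¹ * w * l) (l⁻¹ * m * l) := by rw [c, c]; group
    rwa [e] at h2

namespace Hyp

variable {V F : Subgroup G} (h : Hyp V F)
include h

theorem conj_inf_eq [Finite G] {g g' : G} (hg : g ∈ centralizer (F : Set G))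
    (hg' : g' ∈ centralizer (F : Set G)) (hb : BadX V (g⁻¹ * g')) :
    MulAut.conj g • V ⊓ MulAut.conj g' • V = F := by
  have h1 := h.inf_eq_of_bad (mul_mem (inv_mem hg) hg') hb
  have h2 := congrArg (fun A : Subgroup G => MulAut.conj g • A) h1
  simp only [Subgroup.smul_inf (MulAut.conj g) V (MulAut.conj (g⁻¹ * g') • V), conj_conj,
    mul_inv_cancel_left, conj_eq_of_cent hg] at h2
  exact h2

theorem conj_commute [Finite G] {g g' : G} (hg : g ∈ centralizer (F : Set G))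
    (hg' : g' ∈ centralizer (F : Set G)) (hlt : ¬ MulAut.conj g • V ⊓ MulAut.conj g' • V ≤ F) :
    MulAut.conj g' • V ≤ centralizer ((MulAut.conj g • V : Subgroup G) : Set G) := by
  have h1 : F < V ⊓ MulAut.conj (g⁻¹ * g') • V := by
    refine lt_of_le_of_ne (h.F_le_inf (mul_mem (inv_mem hg) hg')) fun h2 => hlt ?_
    have h3 := congrArg (fun A : Subgroup G => MulAut.conj g • A) h2
    simp only [Subgroup.smul_inf (MulAut.conj g) V (MulAut.conj (g⁻¹ * g') • V), conj_conj,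
      mul_inv_cancel_left, conj_eq_of_cent hg] at h3
    exact h3.ge
  have h2 := conj_le_centralizer (g := g) (h.commute_of_lt (mul_mem (inv_mem hg) hg') h1)
  rwa [conj_conj, mul_inv_cancel_left] at h2

theorem exists_not_mem_conj (g : G) : ∃ w ∈ MulAut.conj g • V, w ∉ MulAut.conj g • EE V F := by
  obtain ⟨w, hw, hwE⟩ := h.exists_not_mem
  refine ⟨g * w * g⁻¹, Frame.conj_mem hw, fun h1 => hwE ?_⟩
  rw [mem_conj] at h1
  have e : g⁻¹ * (g * w * g⁻¹) * g = w := by group
  rwa [e] at h1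

theorem E_le_of_commute [Finite G] {x g g' : G} (hg : Good V F x g) (hg' : Good V F x g')
    (hc : MulAut.conj g' • V ≤ centralizer ((MulAut.conj g • V : Subgroup G) : Set G)) :
    MulAut.conj g • EE V F ≤ MulAut.conj g' • EE V F := by
  obtain ⟨w, hw, hwE⟩ := h.exists_not_mem_conj g'
  intro e he
  refine hg'.reg e (hg.le he) w hw hwE ?_
  have h1 := mem_centralizer_iff.1 (hc hw) e (conjE_le_conjV g he)
  rw [c, ← h1, mul_inv_cancel_right, mul_inv_cancel]
  exact one_mem _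

/-- **(F1)** `E^g = E^{g'}` (and `[V^g, V^{g'}] = 1`) or `E^g ∩ E^{g'} = F`. -/
theorem dich [Finite G] {x g g' : G} (hx : x ∈ centralizer (F : Set G)) (hg : Good V F x g)
    (hg' : Good V F x g') :
    (MulAut.conj g • EE V F = MulAut.conj g' • EE V F ∧
      MulAut.conj g' • V ≤ centralizer ((MulAut.conj g • V : Subgroup G) : Set G)) ∨
      (BadX V (g⁻¹ * g') ∧ MulAut.conj g • EE V F ⊓ MulAut.conj g' • EE V F = F) := by
  by_cases h2 : IsPGroup 2 (MulAut.conj g • V ⊔ MulAut.conj g' • V : Subgroup G)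
  · left
    obtain ⟨n, hn, hnF, hfix⟩ := h.exists_fix' hx h2 (sup_le hg.norm hg'.norm)
      (sup_le (h.conjV_le_X hg.gX) (h.conjV_le_X hg'.gX))
    obtain ⟨w, hw, hwE⟩ := h.exists_not_mem_conj g
    obtain ⟨w', hw', hwE'⟩ := h.exists_not_mem_conj g'
    have h3 := hg.reg n hn w hw hwE (hfix w (mem_sup_left hw))
    have h4 := hg'.reg n hn w' hw' hwE' (hfix w' (mem_sup_right hw'))
    have h5 := h.conj_commute hg.gX hg'.gX fun h6 =>
      hnF (h6 (mem_inf.2 ⟨conjE_le_conjV g h3, conjE_le_conjV g' h4⟩))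
    exact ⟨le_antisymm (h.E_le_of_commute hg hg' h5) (h.E_le_of_commute hg' hg (comm_symm h5)), h5⟩
  · right
    have hb : BadX V (g⁻¹ * g') := by
      intro h3
      apply h2
      have h4 := Choice.isPGroup_conj h3 g
      rw [Subgroup.smul_sup, conj_conj, mul_inv_cancel_left] at h4
      exact h4
    refine ⟨hb, le_antisymm ?_ (le_inf (h.F_le_conjE hg.gX) (h.F_le_conjE hg'.gX))⟩
    rw [← h.conj_inf_eq hg.gX hg'.gX hb]
    exact inf_le_inf (conjE_le_conjV g) (conjE_le_conjV g')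

/-- `E^g ≠ F` -/
theorem conjE_ne (g : G) (hg : g ∈ centralizer (F : Set G)) : MulAut.conj g • EE V F ≠ F := by
  intro h1
  apply h.E_ne_F
  have h2 := congrArg (fun A : Subgroup G => MulAut.conj g⁻¹ • A) h1
  simp only [conj_conj, inv_mul_cancel, map_one, one_smul, conj_eq_of_cent (inv_mem hg)] at h2
  exact h2

/-- the kernel of `V^g` on `EX / F` is `E^g`. -/
theorem ker_conj [Finite G] {x g k : G} (hx : x ∈ centralizer (F : Set G)) (hb : BadX V x)
    (hg : Good V F x g) (hk : k ∈ MulAut.conj g • V) :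
    (∀ n ∈ EX V F x, c k n ∈ F) ↔ k ∈ MulAut.conj g • EE V F := by
  constructor
  · intro h1
    by_contra hkE
    have h2 : EX V F x ≤ MulAut.conj g • EE V F := fun n hn => hg.reg n hn k hk hkE (h1 n hn)
    have h3 : EE V F = MulAut.conj g • EE V F :=
      Subgroup.eq_of_le_of_card_ge (le_sup_left.trans h2) (Choice.card_conj _ _).le
    have h4 : MulAut.conj x • EE V F = MulAut.conj g • EE V F :=
      Subgroup.eq_of_le_of_card_ge (le_sup_right.trans h2)
        (by rw [Choice.card_conj, Choice.card_conj])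
    have h5 : EE V F ≤ V ⊓ MulAut.conj x • V := by
      refine le_inf inf_le_left ?_
      rw [h3, ← h4]
      exact conjE_le_conjV x
    rw [h.inf_eq_of_bad hx hb] at h5
    exact absurd h5 (not_le_of_gt h.F_lt_E)
  · intro hkE n hn
    exact h.comm_WW (conjE_le_W hg.gX hkE) (EEx_le_W hx hn)

end Hyp

/-- the two points -/
def gi (x : G) : Bool → G
  | false => 1
  | true => x

/-- The group acting on `EX / F`. -/
abbrev HX (V F : Subgroup G) (x : G) : Subgroup G :=
  normalizer (EX V F x : Set G) ⊓ centralizer (F : Set G)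

namespace Hyp

variable {V F : Subgroup G} (h : Hyp V F)
include h

theorem good_gi [Finite G] {x : G} (hx : x ∈ centralizer (F : Set G)) (hb : BadX V x) (i : Bool) :
    Good V F x (gi x i) := by
  cases i
  · exact h.good_one hx hb
  · exact h.good_self hx hb

theorem conjV_le_HX [Finite G] {x g : G} (hg : Good V F x g) : MulAut.conj g • V ≤ HX V F x :=
  le_inf hg.norm (h.conjV_le_X hg.gX)

omit h in
/-- the section `EX / F` -/
theorem exists_sectEX {x : G} (hx : x ∈ centralizer (F : Set G)) :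
    ∃ (M : Type u) (_ : Group M), Nonempty (Sect (HX V F x) (EX V F x) F M) := by
  refine exists_sect (fun n hn d hd => ?_) (fun h hh n hn => norm_mem hh.1 hn) fun h hh d hd => ?_
  · exact norm_mem (X_norm_F (W_le_X (EEx_le_W hx hn))) hd
  · exact norm_mem (X_norm_F hh.2) hd

/-- `V^{g}` and `V^{g'}` induce the same group on `EX / F` if `E^g = E^{g'}`. -/
theorem A_eq [Finite G] {x g g' : G} (hx : x ∈ centralizer (F : Set G)) (hg : Good V F x g)
    (hg' : Good V F x g') (hE : MulAut.conj g • EE V F = MulAut.conj g' • EE V F)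
    (hF0 : ∀ y ∈ centralizer (F : Set G), MulAut.conj y • EE V F = EE V F →
      ∃ z ∈ centralizer (EE V F : Set G), MulAut.conj y • V = MulAut.conj z • V)
    {M : Type u} [Group M] (s : Sect (HX V F x) (EX V F x) F M) :
    s.A (MulAut.conj g • V) ≤ s.A (MulAut.conj g' • V) := by
  -- `y = g'⁻¹ g` fixes `E`
  have hyE : MulAut.conj (g'⁻¹ * g) • EE V F = EE V F := by
    rw [← conj_conj, hE, conj_conj, inv_mul_cancel, map_one, one_smul]
  obtain ⟨z, hz, hyz⟩ := hF0 _ (mul_mem (inv_mem hg'.gX) hg.gX) hyE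
  rintro _ ⟨⟨w, hwH⟩, hw, rfl⟩
  have hw' : w ∈ MulAut.conj g • V := hw
  -- `w = g' z v z⁻¹ g'⁻¹`
  have h1 : MulAut.conj g • V = MulAut.conj (g' * z) • V := by
    rw [← conj_conj g', ← hyz, conj_conj, mul_inv_cancel_left]
  rw [h1] at hw'
  obtain ⟨v, hv, rfl⟩ := mem_conj'.1 hw'
  have h2 : g' * v * g'⁻¹ ∈ MulAut.conj g' • V := Frame.conj_mem hv
  refine ⟨⟨g' * v * g'⁻¹, h.conjV_le_HX hg' h2⟩, h2, ?_⟩
  rw [s.ρ_eq_iff]
  intro n hn
  have hnW : n ∈ WW V F := EEx_le_W hx hn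
  have hn' : g'⁻¹ * n * g' ∈ WW V F := by
    have := conj_mem_W (inv_mem hg'.gX) hnW
    rwa [inv_inv] at this
  have h3 := h.comm_conj_mem hz hv hn'
  have h4 := norm_mem (X_norm_F hg'.gX) h3
  -- move to the other side
  have hnX : n ∈ centralizer (F : Set G) := W_le_X hnW
  have h5 := norm_mem' (X_norm_F hnX) h4
  have e : n⁻¹ * (g' * ((c v (g'⁻¹ * n * g'))⁻¹ * c (z * v * z⁻¹) (g'⁻¹ * n * g')) * g'⁻¹) * n =
      n⁻¹ * ((c (g' * v * g'⁻¹) n)⁻¹ * c (g' * z * v * (g' * z)⁻¹) n) * n := by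
    rw [c, c, c, c]; group
  rw [e] at h5
  have e2 : n⁻¹ * ((c (g' * v * g'⁻¹) n)⁻¹ * c (g' * z * v * (g' * z)⁻¹) n) * n =
      (g' * v * g'⁻¹ * n * (g' * v * g'⁻¹)⁻¹)⁻¹ *
        (g' * z * v * (g' * z)⁻¹ * n * (g' * z * v * (g' * z)⁻¹)⁻¹) := by
    rw [c, c]; group
  rw [e2] at h5
  exact h5

/-- **(F1), (F2): the instance of `Spr`.** -/
theorem exists_spr [Finite G] {x : G} (hx : x ∈ centralizer (F : Set G)) (hb : BadX V x)
    (hF0 : ∀ y ∈ centralizer (F : Set G), MulAut.conj y • EE V F = EE V F →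
      ∃ z ∈ centralizer (EE V F : Set G), MulAut.conj y • V = MulAut.conj z • V)
    {M : Type u} [Group M] (s : Sect (HX V F x) (EX V F x) F M) :
    Spr (fun i => s.B (MulAut.conj (gi x i) • EE V F)) (fun i => s.A (MulAut.conj (gi x i) • V)) := by
  have hgood := h.good_gi hx hb
  have hFB : ∀ g ∈ centralizer (F : Set G), F ≤ MulAut.conj g • EE V F := fun g hg => h.F_le_conjE hg
  have hXW : EX V F x ≤ WW V F := EEx_le_W hx
  have e0 : MulAut.conj (gi x false) • EE V F = EE V F := by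
    change MulAut.conj (1 : G) • EE V F = EE V F
    rw [map_one, one_smul]
  have e0V : MulAut.conj (gi x false) • V = V := by
    change MulAut.conj (1 : G) • V = V
    rw [map_one, one_smul]
  have hA1 : ∀ (i : Bool) (k : G) (hk : k ∈ MulAut.conj (gi x i) • V),
      s.ρ ⟨k, h.conjV_le_HX (hgood i) hk⟩ = 1 ↔ k ∈ MulAut.conj (gi x i) • EE V F := by
    intro i k hk
    rw [s.ρ_eq_one_iff]
    exact h.ker_conj hx hb (hgood i) hk
  have hAcard : ∀ i, Nat.card (s.A (MulAut.conj (gi x i) • V)) = (EE V F).relIndex V := by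
    intro i
    rw [s.card_A (h.conjV_le_HX (hgood i)) (hA1 i)]
    have e1 := card_mul_relIndex' (inf_le_left : EE V F ≤ V)
    have e2 := card_mul_relIndex' (conjE_le_conjV (V := V) (F := F) (gi x i))
    rw [Choice.card_conj, Choice.card_conj, ← e1] at e2
    exact Nat.eq_of_mul_eq_mul_left Nat.card_pos e2
  have hBcard : ∀ i, Nat.card (s.B (MulAut.conj (gi x i) • EE V F)) = F.relIndex (EE V F) := by
    intro i
    rw [s.card_B (hgood i).le]
    have e1 := card_mul_relIndex' h.F_le_E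
    have e2 := card_mul_relIndex' (hFB _ (hgood i).gX)
    rw [Choice.card_conj, ← e1] at e2
    exact Nat.eq_of_mul_eq_mul_left Nat.card_pos e2
  have hL : ∀ y ∈ s.A (MulAut.conj (gi x false) • V) ⊔ s.A (MulAut.conj (gi x true) • V),
      ∃ l : ↥(HX V F x), s.ρ l = y := by
    intro y hy
    rw [s.A_sup (h.conjV_le_HX (hgood false)) (h.conjV_le_HX (hgood true))] at hy
    obtain ⟨l, -, hl⟩ := hy
    exact ⟨l, hl⟩
  have hgl : ∀ (l : ↥(HX V F x)) (i : Bool), Good V F x ((l : G) * gi x i) := fun l i =>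
    (hgood i).mul l.2.1 l.2.2
  exact
  { comm := by
      intro m n
      obtain ⟨a, rfl⟩ := s.surj m
      obtain ⟨b, rfl⟩ := s.surj n
      rw [← map_mul, ← map_mul, s.π_eq_iff]
      have h1 := h.comm_WW (inv_mem (hXW b.2)) (inv_mem (hXW a.2))
      have e : (((a * b : ↥(EX V F x)) : G))⁻¹ * ((b * a : ↥(EX V F x)) : G) = c (b : G)⁻¹ (a : G)⁻¹ := by
        rw [c]; push_cast; group
      rw [e]
      exact h1
    sq := by
      intro m
      obtain ⟨a, rfl⟩ := s.surj m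
      rw [← map_mul, s.ker]
      exact h.sq_W (hXW a.2)
    disj := by
      rw [s.B_inf (hFB _ (hgood true).gX), ← s.B_D, e0]
      congr 1
      apply le_antisymm
      · rw [← h.inf_eq_of_bad hx hb]
        exact inf_le_inf inf_le_left (conjE_le_conjV x)
      · exact le_inf h.F_le_E (hFB x hx)
    sup := by
      rw [s.B_sup (hgood false).le (hgood true).le, e0]
      exact s.B_N
    card := by
      rw [hBcard, hBcard]
    ne := by
      intro i h1
      rw [← s.B_D] at h1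
      exact h.conjE_ne _ (hgood i).gX (s.B_inj (hFB _ (hgood i).gX) (hgood i).le le_rfl
        (h.F_le_E.trans le_sup_left) h1)
    Acomm := by
      rintro i _ ⟨a, ha, rfl⟩ _ ⟨b, hb', rfl⟩
      rw [← map_mul, ← map_mul]
      congr 1
      apply Subtype.ext
      exact comm_of_le_centralizer (conj_le_centralizer h.comm) ha hb'
    Asq := by
      rintro i _ ⟨a, ha, rfl⟩
      rw [← map_mul]
      have ha' : (a : G) ∈ MulAut.conj (gi x i) • V := ha
      obtain ⟨v, hv, hva⟩ := mem_conj'.1 ha'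
      have h1 : a * a = 1 := by
        apply Subtype.ext
        push_cast
        rw [hva]
        have := h.sq' hv
        calc gi x i * v * (gi x i)⁻¹ * (gi x i * v * (gi x i)⁻¹) = gi x i * (v * v) * (gi x i)⁻¹ := by group
          _ = 1 := by rw [this]; group
      rw [h1, map_one]
    Acard := by
      rw [hAcard, hAcard]
    Ane := by
      intro i h1
      obtain ⟨w, hw, hwE⟩ := h.exists_not_mem_conj (gi x i)
      refine hwE ((hA1 i w hw).1 ?_)
      have h2 : s.ρ ⟨w, h.conjV_le_HX (hgood i) hw⟩ ∈ s.A (MulAut.conj (gi x i) • V) := ⟨_, hw, rfl⟩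
      have h1' : s.A (MulAut.conj (gi x i) • V) = ⊥ := h1
      rw [h1'] at h2
      exact mem_bot.1 h2
    fix := by
      rintro i _ ⟨a, ha, rfl⟩ _ ⟨n, hn, rfl⟩
      rw [s.ρπ]
      congr 1
      apply Subtype.ext
      have h1 : (a : G) * n = n * a :=
        comm_of_le_centralizer (conj_le_centralizer h.comm) ha (conjE_le_conjV _ hn)
      change (a : G) * n * (a : G)⁻¹ = n
      rw [h1, mul_inv_cancel_right]
    into := by
      rintro i _ ⟨a, ha, rfl⟩ m
      obtain ⟨n, rfl⟩ := s.surj m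
      rw [s.ρπ, ← map_inv, ← map_mul]
      rw [s.mem_B (hFB _ (hgood i).gX)]
      exact h.comm_conjVW (hgood i).gX ha (hXW n.2)
    free := by
      rintro i _ ⟨a, ha, rfl⟩ hne m hm
      obtain ⟨n, rfl⟩ := s.surj m
      rw [s.mem_B (hFB _ (hgood i).gX)]
      refine (hgood i).reg n n.2 a ha (fun h1 => hne ((hA1 i a ha).2 h1)) ?_
      rw [s.ρπ, s.π_eq_iff] at hm
      have h1 := norm_mem (X_norm_F (W_le_X (hXW n.2))) (inv_mem hm)
      have e : (n : G) * (((⟨a * n * (a : G)⁻¹, s.nN a a.2 n n.2⟩ : ↥(EX V F x)) : G)⁻¹ * (n : G))⁻¹ *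
          (n : G)⁻¹ = c (a : G) n := by
        change (n : G) * (((a : G) * n * (a : G)⁻¹)⁻¹ * (n : G))⁻¹ * (n : G)⁻¹ = _
        rw [c]
        group
      rwa [e] at h1
    spread := by
      intro i j y hy
      obtain ⟨l, rfl⟩ := hL y hy
      rw [s.B_map, conj_conj]
      rcases h.dich hx (hgl l i) (hgood j) with ⟨h1, -⟩ | ⟨-, h1⟩
      · left; rw [h1]
      · right
        rw [s.B_inf (hFB _ (hgood j).gX), h1, s.B_D]
    stab := by
      intro i j y hy hB
      obtain ⟨l, rfl⟩ := hL y hy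
      change (s.B _).map _ = s.B _ at hB
      rw [s.B_map, conj_conj] at hB
      rw [s.A_map, conj_conj]
      have h1 := s.B_inj (hFB _ (hgl l i).gX) (hgl l i).le (hFB _ (hgood j).gX) (hgood j).le hB
      exact le_antisymm (h.A_eq hx (hgl l i) (hgood j) h1 hF0 s)
        (h.A_eq hx (hgood j) (hgl l i) h1.symm hF0 s) }

end Hyp

end Cfsg.Agent.Omega.NOne.Flat

end
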