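import Cfsg.Agent.Mrg.Omega.NOne.LemmaT
import Cfsg.Agent.Omega.NoFF.Basic
import Cfsg.Agent.S0215
import Mathlib.GroupTheory.Sylow
import Mathlib.GroupTheory.GroupAction.Quotient
import Mathlib.GroupTheory.GroupAction.SubMulAction
import Mathlib.GroupTheory.Perm.Cycle.Type
import Mathlib.Tactic

section


/-!
# THEOREM OFF (text OMEGA #16468, helper874)

`V`, `F`, `E`, `W`, `N` as in THEOREM FLAT.  For every `E₀` with `F ≤ E₀ ≤ E` : `|E₀ : F| ≤ |W : C_W(E₀)|`.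

* `WA V F a E₀ = {s ∈ W | [a, s] ∈ E₀}`; `Hyp.relIndex_cent_WA` (1): `|E : C_E(W_a)| = |W : C_W(E₀)|`;
* `Hyp.lt_mul` (2): `|E₀ : F| < |V : E| |W : C_W(E₀)|` for `F < E₀ ≤ E`;
* `Hyp.off` (3): `|E₀ : F| ≤ |W : C_W(E₀)|`, with the socket `hq` (`|E₀ : F|` is a power of `|V : E|` for the
  `τ`-invariant, `N(V) ∩ N(F)`-invariant `E₀`); `Hyp.off_core`: the same with the socket "`|E₁ : F|` and
  `|W : C_W(E₁)|` are powers of some `Q ≥ |V : E|`" for `τ`-invariant, `N(E) ∩ N(F) ∩ N(W)`-invariant `E₁`;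
  `Hyp.off_div`: with the divisibility socket of helper789, helper304 (`N_X(E)`-invariant subgroups);
  `Hyp.off_two`: no socket for `|V : E| = 2`;
* `Hyp.off_of_le` COROLLARY A: `|Y : C_Y(W)| ≤ |W : C_W(Y)|` for every `Y ≤ E`.
-/

set_option autoImplicit false

namespace Cfsg.Agent.Omega.NOne.Flat

open Subgroup Cfsg Cfsg.Agent.Omega.NoFF.Basic Cfsg.Agent.Omega.NOne.Frame
open Cfsg.Agent.Omega.NOne.NearFF (Near c c_def)
open Cfsg.Agent.ZN (o2)
open Cfsg.Agent.MinSimple.VModule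
open scoped Pointwise

universe u

variable {G : Type u} [Group G]

namespace Off

theorem c_eq_one {x y : G} : c x y = 1 ↔ x * y = y * x := by
  rw [c]
  constructor
  · intro h
    calc x * y = x * y * x⁻¹ * y⁻¹ * (y * x) := by group
      _ = y * x := by rw [h, one_mul]
  · intro h
    rw [h, mul_inv_cancel_right, mul_inv_cancel]

theorem conj_c (g x y : G) : g * c x y * g⁻¹ = c (g * x * g⁻¹) (g * y * g⁻¹) := by
  rw [c, c]; group

/-- `|H N| |H ∩ N| = |H| |N|` -/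
theorem card_sup_mul_inf {H N : Subgroup G} (h : H ≤ normalizer (N : Set G)) :
    Nat.card ↥(H ⊔ N) * Nat.card ↥(H ⊓ N) = Nat.card H * Nat.card N := by
  have hN : (N.subgroupOf (H ⊔ N)).Normal :=
    normal_subgroupOf_of_le_normalizer (sup_le h le_normalizer)
  have h1 := relIndex_sup_right (H.subgroupOf (H ⊔ N)) (N.subgroupOf (H ⊔ N))
  rw [← Subgroup.subgroupOf_sup le_sup_left le_sup_right, Subgroup.subgroupOf_self,
    Subgroup.relIndex_subgroupOf le_sup_left, relIndex_top_right] at h1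
  have h2 : Nat.card N * N.relIndex H = Nat.card (H ⊔ N : Subgroup G) := by
    rw [← h1]
    exact card_mul_relIndex' le_sup_right
  have h3 := card_mul_relIndex' (inf_le_left : H ⊓ N ≤ H)
  rw [inf_relIndex_left] at h3
  rw [← h2, ← h3]
  ring

end Off

open Off

/-- `W_a = {s ∈ W | [a, s] ∈ E₀}` (see `Hyp.mem_WA`) -/
def WA (V F : Subgroup G) (a : G) (E0 : Subgroup G) : Subgroup G :=
  closure {s | s ∈ WW V F ∧ c a s ∈ E0}

/-- `E_b(U) = F {[b, s] | s ∈ U}` (see `Hyp.mem_EA`) -/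
def EA (F : Subgroup G) (b : G) (U : Subgroup G) : Subgroup G := F ⊔ closure {e | ∃ s ∈ U, c b s = e}

namespace Hyp

variable {V F : Subgroup G} (h : Hyp V F)
include h

theorem mem_WA [Finite G] {a : G} (ha : a ∈ V) {E0 : Subgroup G} (hF : F ≤ E0) {s : G} :
    s ∈ WA V F a E0 ↔ s ∈ WW V F ∧ c a s ∈ E0 := by
  refine ⟨fun hs => ?_, fun hs => subset_closure hs⟩
  let K : Subgroup G :=
    { carrier := {s | s ∈ WW V F ∧ c a s ∈ E0}
      one_mem' := ⟨one_mem _, by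
        have : c a 1 = 1 := c_one_right a
        rw [this]; exact one_mem _⟩
      mul_mem' := by
        rintro s t ⟨hs, hs2⟩ ⟨ht, ht2⟩
        refine ⟨mul_mem hs ht, ?_⟩
        rw [h.c_mul_right ha hs ht]
        exact mul_mem (mul_mem hs2 ht2) (hF (h.beta_memF ha ht hs))
      inv_mem' := by
        rintro s ⟨hs, hs2⟩
        refine ⟨inv_mem hs, ?_⟩
        have h1 := hF (h.c_inv_mem ha hs)
        have h2 := mul_mem h1 (inv_mem hs2)
        rwa [mul_inv_cancel_right] at h2 }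
  exact (closure_le K).2 (fun _ hx => hx) hs

omit h in
theorem WA_le_W {a : G} {E0 : Subgroup G} : WA V F a E0 ≤ WW V F := (closure_le _).2 fun _ hx => hx.1

theorem NN_le_WA [Finite G] {a : G} (ha : a ∈ V) {E0 : Subgroup G} (hF : F ≤ E0) : NN V F ≤ WA V F a E0 :=
  fun _ hs => (h.mem_WA ha hF).2 ⟨hs.1, hF (h.c_mem_F ha hs)⟩

theorem exists_WA [Finite G] {a : G} (ha : a ∈ V) (haE : a ∉ EE V F) {E0 : Subgroup G} (hF : F ≤ E0)
    (hE : E0 ≤ EE V F) {e : G} (he : e ∈ E0) : ∃ s ∈ WA V F a E0, c a s * e⁻¹ ∈ F := by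
  obtain ⟨s, hs, hse⟩ := h.surj ha haE (hE he)
  refine ⟨s, (h.mem_WA ha hF).2 ⟨hs, ?_⟩, hse⟩
  have := mul_mem (hF hse) he
  rwa [inv_mul_cancel_right] at this

theorem cos_WA [Finite G] {a : G} (ha : a ∈ V) (haE : a ∉ EE V F) {E0 : Subgroup G} (hF : F ≤ E0) :
    Cos (c a) (WA V F a E0) (NN V F) E0 F where
  mem := fun _ hs => ((h.mem_WA ha hF).1 hs).2
  iff := fun x hx y hy => (h.cos_NN ha haE).iff x (WA_le_W hx) y (WA_le_W hy)

/-- the surjectivity of the map in the form of `Cos` -/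
theorem inv_mul_mem {e f : G} (he : e ∈ V) (hf : f ∈ V) (hef : e * f⁻¹ ∈ F) : e⁻¹ * f ∈ F := by
  have h1 := inv_mem hef
  rw [mul_inv_rev, inv_inv, h.V_comm hf (inv_mem he)] at h1
  exact h1

/-- `|W_a : N| = |E₀ : F|` -/
theorem relIndex_WA [Finite G] {a : G} (ha : a ∈ V) (haE : a ∉ EE V F) {E0 : Subgroup G} (hF : F ≤ E0)
    (hE : E0 ≤ EE V F) : (NN V F).relIndex (WA V F a E0) = F.relIndex E0 := by
  refine (h.cos_WA ha haE hF).eq_of_surj fun e he => ?_
  obtain ⟨s, hs, hse⟩ := h.exists_WA ha haE hF hE he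
  exact ⟨s, hs, h.inv_mul_mem (h.c_memV ha (WA_le_W hs)) (hE he).1 hse⟩

/-! ### (1) -/

/-- `s' ∈ C(E₀) ↔ [a, s'] ∈ C(W_a)` -/
theorem cent_iff [Finite G] {a : G} (ha : a ∈ V) (haE : a ∉ EE V F) {E0 : Subgroup G} (hF : F ≤ E0)
    (hE : E0 ≤ EE V F) {s' : G} (hs' : s' ∈ WW V F) :
    s' ∈ centralizer (E0 : Set G) ↔ c a s' ∈ centralizer (WA V F a E0 : Set G) := by
  rw [mem_centralizer_iff, mem_centralizer_iff]
  constructor
  · intro h1 s hs
    have h2 := h1 _ ((h.mem_WA ha hF).1 hs).2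
    have h3 : c (c a s) s' = 1 := c_eq_one.2 h2
    rw [h.beta_comm ha (WA_le_W hs) hs', c_eq_one] at h3
    exact h3.symm
  · intro h1 e he
    obtain ⟨s, hs, hse⟩ := h.exists_WA ha haE hF hE he
    have h2 : c (c a s') s = 1 := c_eq_one.2 (h1 s hs).symm
    rw [h.beta_comm ha hs' (WA_le_W hs)] at h2
    have h3 := h.inv_mul_mem (h.c_memV ha (WA_le_W hs)) (hE he).1 hse
    rw [h.c_congr_left (h.c_memV ha (WA_le_W hs)) (hE he).1 hs' h3] at h2
    exact c_eq_one.1 h2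

theorem F_le_cent_WA {a : G} {E0 : Subgroup G} : F ≤ EE V F ⊓ centralizer (WA V F a E0 : Set G) :=
  le_inf h.F_le_E (comm_symm (WA_le_W.trans W_le_X))

omit h in
theorem NN_le_cent_E0 {E0 : Subgroup G} (hE : E0 ≤ EE V F) :
    NN V F ≤ WW V F ⊓ centralizer (E0 : Set G) :=
  inf_le_inf_left _ (centralizer_le hE)

/-- `|C_W(E₀) : N| = |C_E(W_a) : F|` -/
theorem relIndex_cent' [Finite G] {a : G} (ha : a ∈ V) (haE : a ∉ EE V F) {E0 : Subgroup G} (hF : F ≤ E0)
    (hE : E0 ≤ EE V F) : (NN V F).relIndex (WW V F ⊓ centralizer (E0 : Set G)) =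
      F.relIndex (EE V F ⊓ centralizer (WA V F a E0 : Set G)) := by
  have hc : Cos (c a) (WW V F ⊓ centralizer (E0 : Set G)) (NN V F)
      (EE V F ⊓ centralizer (WA V F a E0 : Set G)) F :=
    { mem := fun s hs => mem_inf.2 ⟨h.c_memE ha hs.1, (h.cent_iff ha haE hF hE hs.1).1 hs.2⟩
      iff := fun x hx y hy => (h.cos_NN ha haE).iff x hx.1 y hy.1 }
  refine hc.eq_of_surj fun e he => ?_
  obtain ⟨heE, heC⟩ := mem_inf.1 he
  obtain ⟨s, hs, hse⟩ := h.surj ha haE heE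
  refine ⟨s, mem_inf.2 ⟨hs, ?_⟩, h.inv_mul_mem (h.c_memV ha hs) heE.1 hse⟩
  rw [h.cent_iff ha haE hF hE hs]
  have h1 := mul_mem ((h.F_le_cent_WA (a := a) (E0 := E0) hse).2) heC
  rwa [inv_mul_cancel_right] at h1

/-- **(1)** `|E : C_E(W_a)| = |W : C_W(E₀)|` -/
theorem relIndex_cent_WA [Finite G] {a : G} (ha : a ∈ V) (haE : a ∉ EE V F) {E0 : Subgroup G}
    (hF : F ≤ E0) (hE : E0 ≤ EE V F) :
    (centralizer (WA V F a E0 : Set G)).relIndex (EE V F) =
      (centralizer (E0 : Set G)).relIndex (WW V F) := by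
  have h1 := relIndex_mul_relIndex F (EE V F ⊓ centralizer (WA V F a E0 : Set G)) (EE V F)
    h.F_le_cent_WA inf_le_left
  have h2 := relIndex_mul_relIndex (NN V F) (WW V F ⊓ centralizer (E0 : Set G)) (WW V F)
    (NN_le_cent_E0 hE) inf_le_left
  rw [inf_relIndex_left] at h1 h2
  rw [h.relIndex_cent' ha haE hF hE, h.relIndex_NN, ← h1] at h2
  exact (Nat.eq_of_mul_eq_mul_left (Nat.pos_of_ne_zero index_ne_zero_of_finite) h2).symm

/-! ### (2) -/

/-- **(2)** `|E₀ : F| < |V : E| |W : C_W(E₀)|` for `F < E₀ ≤ E` -/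
theorem lt_mul [Finite G] {E0 : Subgroup G} (hF : F < E0) (hE : E0 ≤ EE V F) :
    F.relIndex E0 < (EE V F).relIndex V * (centralizer (E0 : Set G)).relIndex (WW V F) := by
  obtain ⟨a, ha, haE⟩ := h.exists_not_mem
  obtain ⟨x, hx, hb, -, -⟩ := h.exists_near ha haE
  set A : Subgroup G := MulAut.conj x • EE V F ⊓ WA V F a E0 with hA
  have hAW : A ≤ WW V F := inf_le_left.trans (conjE_le_W hx)
  have hAV : A ≤ MulAut.conj x • V := inf_le_left.trans (conjE_le_conjV x)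
  have hAc : A ≤ centralizer (A : Set G) := comm_mono (conj_le_centralizer h.comm) hAV hAV
  have hAs : ∀ s ∈ A, s ^ 2 = 1 := by
    intro s hs
    obtain ⟨y, hy, rfl⟩ := mem_conj'.1 (hAV hs)
    rw [conj_pow, h.sq y hy, mul_one, mul_inv_cancel]
  have hFA : F ≤ A := le_inf (h.F_le_conjE hx) (h.F_le_NN.trans (h.NN_le_WA ha hF.le))
  have hAN : A ⊓ NN V F = F := by
    apply le_antisymm
    · exact fun s hs => (h.conjE_inf_NN hx hb).le (mem_inf.2 ⟨hs.1.1, hs.2⟩)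
    · exact le_inf hFA h.F_le_NN
  have hdec : ∀ s ∈ WA V F a E0, ∃ f ∈ A, f⁻¹ * s ∈ NN V F := by
    intro s hs
    obtain ⟨f, hf, hfs⟩ := h.exists_conjE_mul hx hb (WA_le_W hs)
    refine ⟨f, mem_inf.2 ⟨hf, ?_⟩, hfs⟩
    have h1 := mul_mem hs (inv_mem (h.NN_le_WA ha hF.le hfs))
    have e : s * (f⁻¹ * s)⁻¹ = f := by group
    rwa [e] at h1
  -- `|A : F| = |E₀ : F|`
  have hc : Cos id A F (WA V F a E0) (NN V F) :=
    { mem := fun s hs => hs.2
      iff := fun s hs t ht => by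
        refine ⟨fun h1 => ?_, fun h1 => h.F_le_NN h1⟩
        rw [← hAN]
        exact mem_inf.2 ⟨mul_mem (inv_mem hs) ht, h1⟩ }
  have e1 : F.relIndex A = F.relIndex E0 := by
    rw [← h.relIndex_WA ha haE hF.le hE]
    exact hc.eq_of_surj hdec
  have hAF : ¬ A ≤ F := by
    intro h1
    rw [← relIndex_eq_one, e1, relIndex_eq_one] at h1
    exact absurd h1 (not_le_of_gt hF)
  -- `C_A(V) = F`
  have hAV' : A ⊓ centralizer (V : Set G) = F := by
    apply le_antisymm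
    · rw [← hAN]
      intro s hs
      exact mem_inf.2 ⟨hs.1, mem_inf.2 ⟨hAW hs.1, centralizer_le E_le_V hs.2⟩⟩
    · exact le_inf hFA (h.F_le_V.trans h.comm)
  have e2 : (centralizer (V : Set G)).relIndex A = F.relIndex A := by
    rw [← inf_relIndex_left, hAV']
  -- `C_V(A) = C_E(W_a)`
  have hCV : V ⊓ centralizer (A : Set G) = EE V F ⊓ centralizer (WA V F a E0 : Set G) := by
    apply le_antisymm
    · intro w hw
      obtain ⟨hw1, hw2⟩ := mem_inf.1 hw
      have hwE : w ∈ EE V F := by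
        by_contra hwE
        apply hAF
        intro s hs
        rw [← hAN]
        refine mem_inf.2 ⟨hs, (h.c_mem_F_iff hw1 hwE (hAW hs)).1 ?_⟩
        rw [c_eq_one.2 (mem_centralizer_iff.1 hw2 s hs).symm]
        exact one_mem _
      refine mem_inf.2 ⟨hwE, ?_⟩
      rw [mem_centralizer_iff]
      intro s hs
      obtain ⟨f, hf, hfs⟩ := hdec s hs
      have h1 := mem_centralizer_iff.1 hw2 f hf
      have h2 : w * (f⁻¹ * s) = f⁻¹ * s * w := mem_centralizer_iff.1 hfs.2 w hwE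
      calc s * w = f * (f⁻¹ * s * w) := by group
        _ = f * w * (f⁻¹ * s) := by rw [← h2]; group
        _ = w * s := by rw [h1]; group
    · exact inf_le_inf E_le_V (centralizer_le inf_le_right)
  have e3 : (centralizer (A : Set G)).relIndex V =
      (EE V F).relIndex V * (centralizer (E0 : Set G)).relIndex (WW V F) := by
    have h1 := relIndex_mul_relIndex (EE V F ⊓ centralizer (WA V F a E0 : Set G)) (EE V F) V
      inf_le_left inf_le_left
    rw [inf_relIndex_left (EE V F), h.relIndex_cent_WA ha haE hF.le hE, ← hCV,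
      inf_relIndex_left V (centralizer (A : Set G))] at h1
    rw [← h1, mul_comm]
  have hAnc : ¬ A ≤ centralizer (V : Set G) := by
    intro h1
    apply hAF
    rw [← hAV']
    exact le_inf le_rfl h1
  have k := h.noff' (hAW.trans h.W_norm_V) hAc hAs hAnc
  rwa [e2, e1, e3] at k

/-! ### 2-powers -/

omit h in
theorem exists_pow_relIndex [Finite G] {A B : Subgroup G} (hB : IsPGroup 2 B) :
    ∃ k, A.relIndex B = 2 ^ k := by
  have : Fact (Nat.Prime 2) := ⟨Nat.prime_two⟩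
  obtain ⟨n, hn⟩ := IsPGroup.iff_card.1 hB
  have h1 : A.relIndex B ∣ Nat.card B := relIndex_dvd_card A B
  rw [hn] at h1
  obtain ⟨k, -, hk⟩ := (Nat.dvd_prime_pow Nat.prime_two).1 h1
  exact ⟨k, hk⟩

/-- `V / E` of order 2: **THEOREM OFF** -/
theorem off_two [Finite G] (hq : (EE V F).relIndex V = 2) {E0 : Subgroup G} (hF : F ≤ E0)
    (hE : E0 ≤ EE V F) : F.relIndex E0 ≤ (centralizer (E0 : Set G)).relIndex (WW V F) := by
  by_cases hlt : F = E0
  · rw [← hlt, relIndex_self]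
    exact Nat.one_le_iff_ne_zero.2 index_ne_zero_of_finite
  · have h1 := h.lt_mul (lt_of_le_of_ne hF hlt) hE
    obtain ⟨i, hi⟩ := exists_pow_relIndex (A := F) (h.V_isPGroup.to_le (hE.trans E_le_V))
    obtain ⟨j, hj⟩ := exists_pow_relIndex (A := centralizer (E0 : Set G)) (W_isPGroup (V := V) (F := F))
    rw [hq, hi, hj, ← pow_succ'] at h1
    have h2 := (Nat.pow_lt_pow_iff_right (by norm_num)).1 h1
    rw [hi, hj]
    exact Nat.pow_le_pow_right (by norm_num) (by omega)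


/-! ### (3) `E_b(U)` -/

theorem mem_EA [Finite G] {b : G} (hb : b ∈ V) {U : Subgroup G} (hU : U ≤ WW V F) {e : G} :
    e ∈ EA F b U ↔ ∃ s ∈ U, c b s * e⁻¹ ∈ F := by
  constructor
  · intro he
    let K : Subgroup G :=
      { carrier := {e | e ∈ V ∧ ∃ s ∈ U, c b s * e⁻¹ ∈ F}
        one_mem' := ⟨one_mem _, 1, one_mem _, by
          rw [c_one_right, one_mul, inv_one]; exact one_mem _⟩
        mul_mem' := by
          rintro e e' ⟨he, s, hs, hse⟩ ⟨he', s', hs', hse'⟩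
          refine ⟨mul_mem he he', s * s', mul_mem hs hs', ?_⟩
          have h1 := h.c_mul_mem hb (hU hs) (hU hs')
          have h2 := mul_mem (mul_mem h1 hse) hse'
          have hc := h.c_memV hb (hU hs)
          have hc' := h.c_memV hb (hU hs')
          have e1 : c b (s * s') * (c b s * c b s')⁻¹ * (c b s * e⁻¹) * (c b s' * e'⁻¹) =
              c b (s * s') * (e * e')⁻¹ := by
            have e2 : (c b s * c b s')⁻¹ * (c b s * e⁻¹) * (c b s' * e'⁻¹) = (e * e')⁻¹ := by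
              have e3 : e⁻¹ * c b s' = c b s' * e⁻¹ := h.V_comm (inv_mem he) hc'
              calc (c b s * c b s')⁻¹ * (c b s * e⁻¹) * (c b s' * e'⁻¹)
                  = (c b s')⁻¹ * (e⁻¹ * c b s') * e'⁻¹ := by group
                _ = e⁻¹ * e'⁻¹ := by rw [e3]; group
                _ = (e * e')⁻¹ := by rw [h.V_comm (inv_mem he) (inv_mem he')]; group
            calc c b (s * s') * (c b s * c b s')⁻¹ * (c b s * e⁻¹) * (c b s' * e'⁻¹)
                = c b (s * s') * ((c b s * c b s')⁻¹ * (c b s * e⁻¹) * (c b s' * e'⁻¹)) := by group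
              _ = c b (s * s') * (e * e')⁻¹ := by rw [e2]
          rwa [e1] at h2
        inv_mem' := by
          rintro e ⟨he, s, hs, hse⟩
          refine ⟨inv_mem he, s⁻¹, inv_mem hs, ?_⟩
          have h1 := h.c_inv_mem hb (hU hs)
          have h2 := mul_mem h1 (inv_mem hse)
          have e1 : c b s⁻¹ * c b s * (c b s * e⁻¹)⁻¹ = c b s⁻¹ * e⁻¹⁻¹ := by
            have e3 : c b s * e = e * c b s := h.V_comm (h.c_memV hb (hU hs)) he
            calc c b s⁻¹ * c b s * (c b s * e⁻¹)⁻¹ = c b s⁻¹ * (c b s * e) * (c b s)⁻¹ := by group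
              _ = c b s⁻¹ * e⁻¹⁻¹ := by rw [e3]; group
          rwa [e1] at h2 }
    have hle : EA F b U ≤ K := by
      refine sup_le (fun f hf => ⟨h.F_le_V hf, 1, one_mem _, ?_⟩) ((closure_le K).2 ?_)
      · rw [c_one_right, one_mul]
        exact inv_mem hf
      · rintro e ⟨s, hs, rfl⟩
        refine ⟨h.c_memV hb (hU hs), s, hs, ?_⟩
        rw [mul_inv_cancel]
        exact one_mem _
    exact (hle he).2
  · rintro ⟨s, hs, hse⟩
    have e1 : e = (c b s * e⁻¹)⁻¹ * c b s := by group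
    rw [e1]
    exact mul_mem (inv_mem (mem_sup_left hse)) (mem_sup_right (subset_closure ⟨s, hs, rfl⟩))

omit h in
theorem F_le_EA {b : G} {U : Subgroup G} : F ≤ EA F b U := le_sup_left

theorem EA_le_E [Finite G] {b : G} (hb : b ∈ V) {U : Subgroup G} (hU : U ≤ WW V F) : EA F b U ≤ EE V F := by
  refine sup_le h.F_le_E ((closure_le _).2 ?_)
  rintro e ⟨s, hs, rfl⟩
  exact h.c_memE hb (hU hs)

/-- `W_b(E_b(U)) = U` -/
theorem WA_EA [Finite G] {b : G} (hb : b ∈ V) (hbE : b ∉ EE V F) {U : Subgroup G} (hU : U ≤ WW V F)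
    (hN : NN V F ≤ U) : WA V F b (EA F b U) = U := by
  ext s
  rw [h.mem_WA hb F_le_EA, h.mem_EA hb hU]
  constructor
  · rintro ⟨hs, t, ht, hts⟩
    have h1 := h.inv_mul_mem (h.c_memV hb (hU ht)) (h.c_memV hb hs) hts
    rw [h.c_iff hb (hU ht) hs, h.c_mem_F_iff hb hbE (mul_mem (inv_mem (hU ht)) hs)] at h1
    have h2 := mul_mem ht (hN h1)
    rwa [mul_inv_cancel_left] at h2
  · intro hs
    refine ⟨hU hs, s, hs, ?_⟩
    rw [mul_inv_cancel]
    exact one_mem _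

/-! ### conjugation by `g ∈ N(V) ∩ N(F)` -/

omit h in
theorem conj_eq_of_norm {g : G} {A : Subgroup G} (hg : g ∈ normalizer (A : Set G)) :
    MulAut.conj g • A = A := by
  ext z
  rw [mem_conj]
  constructor
  · intro hz
    have := norm_mem hg hz
    have e : g * (g⁻¹ * z * g) * g⁻¹ = z := by group
    rwa [e] at this
  · exact fun hz => norm_mem' hg hz

omit h in
theorem norm_X {g : G} (hg : g ∈ normalizer (F : Set G)) :
    MulAut.conj g • centralizer (F : Set G) = centralizer (F : Set G) := by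
  rw [conj_centralizer, conj_eq_of_norm hg]

omit h in
theorem norm_EE {g : G} (hgV : g ∈ normalizer (V : Set G)) (hg : g ∈ normalizer (F : Set G)) :
    MulAut.conj g • EE V F = EE V F := by
  rw [EE, Subgroup.smul_inf, conj_eq_of_norm hgV, o2_conj, norm_X hg]

omit h in
theorem norm_WW {g : G} (hgV : g ∈ normalizer (V : Set G)) (hg : g ∈ normalizer (F : Set G)) :
    MulAut.conj g • WW V F = WW V F := by
  have key : ∀ g : G, g ∈ normalizer (V : Set G) → g ∈ normalizer (F : Set G) →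
      MulAut.conj g • WW V F ≤ WW V F := by
    intro g hgV hg
    have h1 : WW V F ≤ MulAut.conj g⁻¹ • WW V F := by
      refine V_le fun x hx => ?_
      have hx' : g * x * g⁻¹ ∈ centralizer (F : Set G) := by
        have := Frame.conj_mem (g := g) hx
        rwa [norm_X hg] at this
      have h2 := conj_le_iff (g := g⁻¹) |>.2 (conjE_le_W (V := V) (F := F) hx')
      rw [conj_conj] at h2
      have e : g⁻¹ * (g * x * g⁻¹) = x * g⁻¹ := by group
      rw [e, ← conj_conj, norm_EE (inv_mem hgV) (inv_mem hg)] at h2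
      exact h2
    have h2 := conj_le_iff (g := g) |>.2 h1
    rwa [conj_conj, mul_inv_cancel, map_one, one_smul] at h2
  refine le_antisymm (key g hgV hg) ?_
  have h2 := conj_le_iff (g := g) |>.2 (key g⁻¹ (inv_mem hgV) (inv_mem hg))
  rwa [conj_conj, mul_inv_cancel, map_one, one_smul] at h2


omit h in
theorem relIndex_conj (g : G) (A B : Subgroup G) :
    (MulAut.conj g • A).relIndex (MulAut.conj g • B) = A.relIndex B :=
  relIndex_pointwise_smul (MulAut.conj g) A B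

omit h in
/-- `g (W_a(E₀)) g⁻¹ = W_{gag⁻¹}(g E₀ g⁻¹)` -/
theorem norm_WA {g : G} (hgV : g ∈ normalizer (V : Set G)) (hg : g ∈ normalizer (F : Set G)) (a : G)
    (E0 : Subgroup G) : MulAut.conj g • WA V F a E0 = WA V F (g * a * g⁻¹) (MulAut.conj g • E0) := by
  have key : ∀ g : G, g ∈ normalizer (V : Set G) → g ∈ normalizer (F : Set G) → ∀ a : G,
      ∀ E0 : Subgroup G, WA V F a E0 ≤ MulAut.conj g⁻¹ • WA V F (g * a * g⁻¹) (MulAut.conj g • E0) := by
    intro g hgV hg a E0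
    refine (closure_le _).2 ?_
    rintro s ⟨hs, hs2⟩
    rw [SetLike.mem_coe, mem_conj, inv_inv]
    refine subset_closure ⟨?_, ?_⟩
    · have := Frame.conj_mem (g := g) hs
      rwa [norm_WW hgV hg] at this
    · rw [← conj_c]
      exact Frame.conj_mem hs2
  apply le_antisymm
  · have h2 := conj_le_iff (g := g) |>.2 (key g hgV hg a E0)
    rwa [conj_conj, mul_inv_cancel, map_one, one_smul] at h2
  · have h2 := key g⁻¹ (inv_mem hgV) (inv_mem hg) (g * a * g⁻¹) (MulAut.conj g • E0)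
    rw [inv_inv, conj_conj, inv_mul_cancel, map_one, one_smul] at h2
    have e : g⁻¹ * (g * a * g⁻¹) * g = a := by group
    rwa [e] at h2

end Hyp

/-- `τ`-invariance: `W_a` does not depend on `a ∈ V - E`. -/
def TauInv (V F E0 : Subgroup G) : Prop :=
  ∀ a ∈ V, a ∉ EE V F → ∀ b ∈ V, b ∉ EE V F → WA V F a E0 = WA V F b E0

/-- invariance under `N(V) ∩ N(F)` -/
def NormInv (V F E0 : Subgroup G) : Prop :=
  ∀ g ∈ normalizer (V : Set G), g ∈ normalizer (F : Set G) → MulAut.conj g • E0 = E0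

/-- invariance under `N(E) ∩ N(F) ∩ N(W)` -/
def NormInvE (V F E0 : Subgroup G) : Prop :=
  ∀ g ∈ normalizer (EE V F : Set G), g ∈ normalizer (F : Set G) → g ∈ normalizer (WW V F : Set G) →
    MulAut.conj g • E0 = E0

/-- `g(E₀) = |W : C_W(E₀)| / |E₀ : F|` -/
noncomputable def gg (V F E0 : Subgroup G) : ℚ :=
  ((centralizer (E0 : Set G)).relIndex (WW V F) : ℚ) / (F.relIndex E0 : ℚ)

namespace Hyp

variable {V F : Subgroup G} (h : Hyp V F)
include h

theorem W_norm_of_le [Finite G] {A B : Subgroup G} (hA : A ≤ WW V F) (hB : B ≤ WW V F) (hF : F ≤ B) :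
    A ≤ normalizer (B : Set G) :=
  le_normalizer_of_comm fun _ ha _ hb => hF (h.comm_WW (hA ha) (hB hb))

theorem submod_r [Finite G] {E1 E2 : Subgroup G} (_h1 : E1 ≤ EE V F) (h2 : E2 ≤ EE V F) :
    (centralizer ((E1 ⊔ E2 : Subgroup G) : Set G)).relIndex (WW V F) *
      (centralizer ((E1 ⊓ E2 : Subgroup G) : Set G)).relIndex (WW V F) ≤
    (centralizer (E1 : Set G)).relIndex (WW V F) * (centralizer (E2 : Set G)).relIndex (WW V F) := by
  set W := WW V F with hW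
  have hFc : ∀ E0 : Subgroup G, E0 ≤ EE V F → F ≤ W ⊓ centralizer (E0 : Set G) := fun E0 hE0 =>
    h.F_le_NN.trans (NN_le_cent_E0 hE0)
  have k : ∀ E0 : Subgroup G, Nat.card ↥(W ⊓ centralizer (E0 : Set G)) *
      (centralizer (E0 : Set G)).relIndex W = Nat.card W := fun E0 => by
    have := card_mul_relIndex' (inf_le_left : W ⊓ centralizer (E0 : Set G) ≤ W)
    rwa [inf_relIndex_left] at this
  have hn : W ⊓ centralizer (E1 : Set G) ≤ normalizer ((W ⊓ centralizer (E2 : Set G) : Subgroup G) : Set G) :=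
    h.W_norm_of_le inf_le_left inf_le_left (hFc E2 h2)
  have e1 := card_sup_mul_inf hn
  have e2 : (W ⊓ centralizer (E1 : Set G)) ⊓ (W ⊓ centralizer (E2 : Set G)) =
      W ⊓ centralizer ((E1 ⊔ E2 : Subgroup G) : Set G) := by
    apply le_antisymm
    · refine le_inf (inf_le_left.trans inf_le_left) ?_
      refine comm_symm (sup_le ?_ ?_)
      · exact comm_symm (inf_le_left.trans inf_le_right)
      · exact comm_symm (inf_le_right.trans inf_le_right)
    · exact le_inf (inf_le_inf_left _ (centralizer_le (le_sup_left : E1 ≤ E1 ⊔ E2)))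
        (inf_le_inf_left _ (centralizer_le (le_sup_right : E2 ≤ E1 ⊔ E2)))
  have e3 : (W ⊓ centralizer (E1 : Set G)) ⊔ (W ⊓ centralizer (E2 : Set G)) ≤
      W ⊓ centralizer ((E1 ⊓ E2 : Subgroup G) : Set G) :=
    sup_le (inf_le_inf_left _ (centralizer_le inf_le_left)) (inf_le_inf_left _ (centralizer_le inf_le_right))
  have e4 := Subgroup.card_le_of_le e3
  rw [e2] at e1
  have k1 := k E1
  have k2 := k E2
  have k3 := k (E1 ⊔ E2)
  have k4 := k (E1 ⊓ E2)
  have p1 : 0 < Nat.card ↥(W ⊓ centralizer (E1 : Set G)) := Nat.card_pos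
  have p2 : 0 < Nat.card ↥(W ⊓ centralizer (E2 : Set G)) := Nat.card_pos
  generalize Nat.card ↥(W ⊓ centralizer (E1 : Set G)) = c1 at *
  generalize Nat.card ↥(W ⊓ centralizer (E2 : Set G)) = c2 at *
  generalize Nat.card ↥(W ⊓ centralizer ((E1 ⊔ E2 : Subgroup G) : Set G)) = c3 at *
  generalize Nat.card ↥(W ⊓ centralizer ((E1 ⊓ E2 : Subgroup G) : Set G)) = c4 at *
  generalize (centralizer (E1 : Set G)).relIndex W = r1 at *
  generalize (centralizer (E2 : Set G)).relIndex W = r2 at *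
  generalize (centralizer ((E1 ⊔ E2 : Subgroup G) : Set G)).relIndex W = r3 at *
  generalize (centralizer ((E1 ⊓ E2 : Subgroup G) : Set G)).relIndex W = r4 at *
  generalize Nat.card W = w at *
  by_contra hlt
  have hlt := Nat.not_le.1 hlt
  have e5 : c1 * c2 ≤ c4 * c3 := by
    rw [← e1]
    exact Nat.mul_le_mul_right _ e4
  have e6 : (c1 * c2) * (r1 * r2) = (c4 * c3) * (r3 * r4) := by
    calc (c1 * c2) * (r1 * r2) = (c1 * r1) * (c2 * r2) := by ring
      _ = (c4 * r4) * (c3 * r3) := by rw [k1, k2, k3, k4]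
      _ = _ := by ring
  have e7 : (c1 * c2) * (r1 * r2) < (c1 * c2) * (r3 * r4) :=
    Nat.mul_lt_mul_of_pos_left hlt (Nat.mul_pos p1 p2)
  have e8 : (c1 * c2) * (r3 * r4) ≤ (c4 * c3) * (r3 * r4) := Nat.mul_le_mul_right _ e5
  omega

theorem mod_e [Finite G] {E1 E2 : Subgroup G} (hF1 : F ≤ E1) (hF2 : F ≤ E2) (h1 : E1 ≤ EE V F)
    (h2 : E2 ≤ EE V F) :
    F.relIndex (E1 ⊔ E2) * F.relIndex (E1 ⊓ E2) = F.relIndex E1 * F.relIndex E2 := by
  have hn : E1 ≤ normalizer (E2 : Set G) :=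
    (comm_mono h.comm (h1.trans E_le_V) (h2.trans E_le_V)).trans (centralizer_le_normalizer _)
  have e1 := card_sup_mul_inf hn
  have k1 := card_mul_relIndex' hF1
  have k2 := card_mul_relIndex' hF2
  have k3 := card_mul_relIndex' (hF1.trans (le_sup_left : E1 ≤ E1 ⊔ E2))
  have k4 := card_mul_relIndex' (le_inf hF1 hF2)
  rw [← k1, ← k2, ← k3, ← k4] at e1
  have hp : 0 < Nat.card F * Nat.card F := Nat.mul_pos Nat.card_pos Nat.card_pos
  apply Nat.eq_of_mul_eq_mul_left hp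
  calc Nat.card F * Nat.card F * (F.relIndex (E1 ⊔ E2) * F.relIndex (E1 ⊓ E2)) =
      Nat.card F * F.relIndex (E1 ⊔ E2) * (Nat.card F * F.relIndex (E1 ⊓ E2)) := by ring
    _ = _ := by rw [e1]; ring

omit h in
theorem relIndex_pos' [Finite G] (A B : Subgroup G) : (0 : ℚ) < (A.relIndex B : ℚ) := by
  exact_mod_cast Nat.pos_of_ne_zero index_ne_zero_of_finite

omit h in
theorem gg_pos [Finite G] (E0 : Subgroup G) : 0 < gg V F E0 := div_pos (relIndex_pos' _ _) (relIndex_pos' _ _)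

theorem gg_mul_le [Finite G] {E1 E2 : Subgroup G} (hF1 : F ≤ E1) (hF2 : F ≤ E2) (h1 : E1 ≤ EE V F)
    (h2 : E2 ≤ EE V F) : gg V F (E1 ⊔ E2) * gg V F (E1 ⊓ E2) ≤ gg V F E1 * gg V F E2 := by
  rw [gg, gg, gg, gg, div_mul_div_comm, div_mul_div_comm]
  have e1 : (F.relIndex (E1 ⊔ E2) : ℚ) * (F.relIndex (E1 ⊓ E2) : ℚ) = F.relIndex E1 * F.relIndex E2 := by
    exact_mod_cast h.mod_e hF1 hF2 h1 h2
  rw [e1]
  refine div_le_div_of_nonneg_right ?_ (mul_pos (relIndex_pos' _ _) (relIndex_pos' _ _)).le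
  exact_mod_cast h.submod_r h1 h2

/-- the smallest minimum of `g` -/
theorem exists_least [Finite G] : ∃ E1 : Subgroup G, F ≤ E1 ∧ E1 ≤ EE V F ∧
    (∀ E0 : Subgroup G, F ≤ E0 → E0 ≤ EE V F → gg V F E1 ≤ gg V F E0) ∧
    ∀ E0 : Subgroup G, F ≤ E0 → E0 ≤ EE V F → gg V F E0 = gg V F E1 → E1 ≤ E0 := by
  obtain ⟨E2, ⟨h1, h2⟩, hmin⟩ := Set.exists_min_image {E0 : Subgroup G | F ≤ E0 ∧ E0 ≤ EE V F} (gg V F)
    (Set.toFinite _) ⟨F, le_rfl, h.F_le_E⟩
  obtain ⟨E1, ⟨h3, h4, h5⟩, hmin'⟩ := Set.exists_min_image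
    {E0 : Subgroup G | F ≤ E0 ∧ E0 ≤ EE V F ∧ gg V F E0 = gg V F E2} (fun E0 => Nat.card E0)
    (Set.toFinite _) ⟨E2, h1, h2, rfl⟩
  refine ⟨E1, h3, h4, fun E0 hF hE => by rw [h5]; exact hmin E0 ⟨hF, hE⟩, fun E0 hF hE hg => ?_⟩
  rw [h5] at hg
  -- `g(E₁ ∩ E₀) = g(E₁)`
  have k1 := h.gg_mul_le h3 hF h4 hE
  rw [h5, hg] at k1
  have k2 : gg V F E2 ≤ gg V F (E1 ⊔ E0) := hmin _ ⟨h3.trans le_sup_left, sup_le h4 hE⟩
  have k3 : gg V F E2 ≤ gg V F (E1 ⊓ E0) := hmin _ ⟨le_inf h3 hF, inf_le_left.trans h4⟩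
  have hp : 0 < gg V F E2 := gg_pos _
  have k4 : gg V F (E1 ⊓ E0) = gg V F E2 := by
    apply le_antisymm _ k3
    by_contra hlt
    have hlt := not_le.1 hlt
    have : gg V F E2 * gg V F E2 < gg V F (E1 ⊔ E0) * gg V F (E1 ⊓ E0) :=
      mul_lt_mul' k2 hlt hp.le (lt_of_lt_of_le hp k2)
    linarith
  have k5 := hmin' (E1 ⊓ E0) ⟨le_inf h3 hF, inf_le_left.trans h4, k4⟩
  have k6 : E1 ⊓ E0 = E1 := Subgroup.eq_of_le_of_card_ge inf_le_left k5
  rw [← k6]
  exact inf_le_right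

omit h in
/-- a subgroup with the same `|E₀ : F|` containing `E₁` -/
theorem eq_of_relIndex [Finite G] {E0 E1 : Subgroup G} (hF1 : F ≤ E1) (hF0 : F ≤ E0) (hle : E1 ≤ E0)
    (he : F.relIndex E0 = F.relIndex E1) : E1 = E0 := by
  refine Subgroup.eq_of_le_of_card_ge hle ?_
  rw [← card_mul_relIndex' hF0, ← card_mul_relIndex' hF1, he]

theorem one_lt_relIndex [Finite G] : 1 < (EE V F).relIndex V := by
  obtain ⟨a, ha, haE⟩ := h.exists_not_mem
  have h1 : (EE V F).relIndex V ≠ 0 := index_ne_zero_of_finite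
  have h2 : (EE V F).relIndex V ≠ 1 := by
    rw [Ne, relIndex_eq_one]
    exact fun h2 => haE (h2 ha)
  omega

omit h in
theorem dvd_of_two_pow {n m : ℕ} (h1 : 2 ^ n - 1 ∣ 2 ^ m - 1) : n ∣ m := by
  have h2 := Nat.pow_sub_one_gcd_pow_sub_one 2 n m
  rw [Nat.gcd_eq_left h1] at h2
  have p1 : 0 < 2 ^ n := by positivity
  have p2 : 0 < 2 ^ Nat.gcd n m := by positivity
  have h3 : 2 ^ n = 2 ^ Nat.gcd n m := by omega
  have h4 := Nat.pow_right_injective le_rfl h3
  rw [h4]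
  exact Nat.gcd_dvd_right n m

omit h in
theorem norm_of_conj_eq {g : G} {A : Subgroup G} (hg : MulAut.conj g • A = A) :
    g ∈ normalizer (A : Set G) := by
  rw [mem_normalizer_iff]
  intro z
  constructor
  · intro hz
    have := Frame.conj_mem (g := g) hz
    rwa [hg] at this
  · intro hz
    rw [← hg, mem_conj] at hz
    have e : g⁻¹ * (g * z * g⁻¹) * g = z := by group
    rwa [e] at hz

omit h in
theorem NormInvE.normInv {E0 : Subgroup G} (h0 : NormInvE V F E0) : NormInv V F E0 :=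
  fun g hgV hg => h0 g (norm_of_conj_eq (norm_EE hgV hg)) hg (norm_of_conj_eq (norm_WW hgV hg))

/-- `τ`-invariance of the least minimum -/
theorem least_tau [Finite G] {E1 : Subgroup G} (hF1 : F ≤ E1) (hE1 : E1 ≤ EE V F)
    (hleast : ∀ E0 : Subgroup G, F ≤ E0 → E0 ≤ EE V F → gg V F E0 = gg V F E1 → E1 ≤ E0) :
    TauInv V F E1 := by
  intro a ha haE b hb hbE
  set U := WA V F a E1 with hU
  have hUW : U ≤ WW V F := WA_le_W
  have hNU : NN V F ≤ U := h.NN_le_WA ha hF1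
  have hEA : EA F b U ≤ EE V F := h.EA_le_E hb hUW
  have e1 := h.WA_EA hb hbE hUW hNU
  have e2 : F.relIndex (EA F b U) = F.relIndex E1 := by
    rw [← h.relIndex_WA hb hbE F_le_EA hEA, e1, hU, h.relIndex_WA ha haE hF1 hE1]
  have e3 : (centralizer (EA F b U : Set G)).relIndex (WW V F) =
      (centralizer (E1 : Set G)).relIndex (WW V F) := by
    rw [← h.relIndex_cent_WA hb hbE F_le_EA hEA, e1, hU, h.relIndex_cent_WA ha haE hF1 hE1]
  have e4 : gg V F (EA F b U) = gg V F E1 := by rw [gg, gg, e2, e3]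
  have e5 := eq_of_relIndex hF1 F_le_EA (hleast _ F_le_EA hEA e4) e2
  rw [← e1, ← e5]

omit h in
/-- invariance of the least minimum under `N(E) ∩ N(F) ∩ N(W)` -/
theorem least_norm [Finite G] {E1 : Subgroup G} (hF1 : F ≤ E1) (hE1 : E1 ≤ EE V F)
    (hleast : ∀ E0 : Subgroup G, F ≤ E0 → E0 ≤ EE V F → gg V F E0 = gg V F E1 → E1 ≤ E0) :
    NormInvE V F E1 := by
  intro g hgE hg hgW
  have hF' : F ≤ MulAut.conj g • E1 := by
    have := conj_le_iff (g := g) |>.2 hF1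
    rwa [conj_eq_of_norm hg] at this
  have hE' : MulAut.conj g • E1 ≤ EE V F := by
    have := conj_le_iff (g := g) |>.2 hE1
    rwa [conj_eq_of_norm hgE] at this
  have e2 : F.relIndex (MulAut.conj g • E1) = F.relIndex E1 := by
    have := relIndex_conj g F E1
    rwa [conj_eq_of_norm hg] at this
  have e3 : (centralizer ((MulAut.conj g • E1 : Subgroup G) : Set G)).relIndex (WW V F) =
      (centralizer (E1 : Set G)).relIndex (WW V F) := by
    have := relIndex_conj g (centralizer (E1 : Set G)) (WW V F)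
    rwa [conj_eq_of_norm hgW, conj_centralizer] at this
  have e4 : gg V F (MulAut.conj g • E1) = gg V F E1 := by rw [gg, gg, e2, e3]
  exact (eq_of_relIndex hF1 hF' (hleast _ hF' hE' e4) e2).symm

/-- **THEOREM OFF**, with the socket: for the least minimum `E₁` of `g` both `|E₁ : F|` and `|W : C_W(E₁)|` are
powers of some `Q ≥ |V : E|` -/
theorem off_core [Finite G] (hq : ∀ E1 : Subgroup G, F < E1 → E1 ≤ EE V F → TauInv V F E1 →
    NormInvE V F E1 → ∃ Q i j, (EE V F).relIndex V ≤ Q ∧ F.relIndex E1 = Q ^ i ∧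
      (centralizer (E1 : Set G)).relIndex (WW V F) = Q ^ j) {E0 : Subgroup G} (hF : F ≤ E0)
    (hE : E0 ≤ EE V F) : F.relIndex E0 ≤ (centralizer (E0 : Set G)).relIndex (WW V F) := by
  obtain ⟨E1, hF1, hE1, hmin, hleast⟩ := h.exists_least
  -- it is enough to show `g(E₁) ≥ 1`
  suffices hsuff : F.relIndex E1 ≤ (centralizer (E1 : Set G)).relIndex (WW V F) by
    have k1 : 1 ≤ gg V F E1 := by
      rw [gg, le_div_iff₀ (relIndex_pos' _ _), one_mul]
      exact_mod_cast hsuff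
    have k2 := k1.trans (hmin E0 hF hE)
    rw [gg, le_div_iff₀ (relIndex_pos' _ _), one_mul] at k2
    exact_mod_cast k2
  by_cases hlt : F = E1
  · rw [← hlt, relIndex_self]
    exact Nat.one_le_iff_ne_zero.2 index_ne_zero_of_finite
  have hlt' : F < E1 := lt_of_le_of_ne hF1 hlt
  obtain ⟨Q, i, j, hQ, hi, hj⟩ := hq E1 hlt' hE1 (h.least_tau hF1 hE1 hleast) (least_norm hF1 hE1 hleast)
  have e1 := h.lt_mul hlt' hE1
  have hq2 := h.one_lt_relIndex
  have hQ2 : 1 < Q := lt_of_lt_of_le hq2 hQ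
  have e2 : F.relIndex E1 < Q * (centralizer (E1 : Set G)).relIndex (WW V F) :=
    lt_of_lt_of_le e1 (Nat.mul_le_mul_right _ hQ)
  rw [hi, hj, ← pow_succ'] at e2
  rw [hi, hj]
  have h2 := (Nat.pow_lt_pow_iff_right hQ2).1 e2
  exact Nat.pow_le_pow_right (by omega) (by omega)

/-- **THEOREM OFF** from divisibility: every `D`, `F < D ≤ E`, invariant under `N(E) ∩ N(F) ∩ N(W)` (in particular
under `N_X(E)`), has `2^m - 1 ∣ |D : F| - 1, |W : C_W(D)| - 1` for some `m` with `|V : E| ≤ 2^m` -/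
theorem off_div [Finite G] (hdiv : ∀ D : Subgroup G, F ≤ D → D ≤ EE V F →
    (∀ g ∈ centralizer (F : Set G), MulAut.conj g • EE V F = EE V F → MulAut.conj g • D = D) →
    ∃ m, (EE V F).relIndex V ≤ 2 ^ m ∧ 2 ^ m - 1 ∣ F.relIndex D - 1 ∧
      2 ^ m - 1 ∣ (centralizer (D : Set G)).relIndex (WW V F) - 1) {E0 : Subgroup G} (hF : F ≤ E0)
    (hE : E0 ≤ EE V F) : F.relIndex E0 ≤ (centralizer (E0 : Set G)).relIndex (WW V F) := by
  refine h.off_core ?_ hF hE
  intro E1 hlt hE1 _ hν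
  obtain ⟨m, hm, h1, h2⟩ := hdiv E1 hlt.le hE1 fun g hg hgE =>
    hν g (norm_of_conj_eq hgE) (X_norm_F hg) (X_norm_W hg)
  obtain ⟨a, ha⟩ := exists_pow_relIndex (A := F) (h.V_isPGroup.to_le (hE1.trans E_le_V))
  obtain ⟨b, hb⟩ := exists_pow_relIndex (A := centralizer (E1 : Set G)) (W_isPGroup (V := V) (F := F))
  rw [ha] at h1
  rw [hb] at h2
  obtain ⟨i, hi⟩ := dvd_of_two_pow h1
  obtain ⟨j, hj⟩ := dvd_of_two_pow h2
  refine ⟨2 ^ m, i, j, hm, ?_, ?_⟩
  · rw [ha, hi, pow_mul]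
  · rw [hb, hj, pow_mul]

/-- **THEOREM OFF**, with the socket `hq` of THEOREM FIELD -/
theorem off [Finite G] (hq : ∀ E0 : Subgroup G, F ≤ E0 → E0 ≤ EE V F → TauInv V F E0 → NormInv V F E0 →
    ∃ k, F.relIndex E0 = (EE V F).relIndex V ^ k) {E0 : Subgroup G} (hF : F ≤ E0)
    (hE : E0 ≤ EE V F) : F.relIndex E0 ≤ (centralizer (E0 : Set G)).relIndex (WW V F) := by
  refine h.off_core ?_ hF hE
  intro E1 hlt' hE1 hτ hνE
  have hν := NormInvE.normInv hνE
  have hF1 := hlt'.le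
  obtain ⟨a, ha, haE⟩ := h.exists_not_mem
  -- `E₂ = C_E(W_a(E₁))`
  set E2 : Subgroup G := EE V F ⊓ centralizer (WA V F a E1 : Set G) with hE2
  have hF2 : F ≤ E2 := h.F_le_cent_WA
  have hτ2 : TauInv V F E2 := by
    have key : ∀ b ∈ V, b ∉ EE V F → WA V F b E2 = WW V F ⊓ centralizer (E1 : Set G) := by
      intro b hb hbE
      have hc : ∀ s ∈ WW V F, s ∈ centralizer (E1 : Set G) ↔ c b s ∈ centralizer (WA V F a E1 : Set G) := by
        intro s hs
        rw [h.cent_iff hb hbE hF1 hE1 hs, ← hτ a ha haE b hb hbE]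
      ext s
      rw [h.mem_WA hb hF2, mem_inf]
      exact and_congr_right fun hs => ⟨fun h1 => (hc s hs).2 h1.2,
        fun h1 => mem_inf.2 ⟨h.c_memE hb hs, (hc s hs).1 h1⟩⟩
    intro b hb hbE b' hb' hbE'
    rw [key b hb hbE, key b' hb' hbE']
  have hν2 : NormInv V F E2 := by
    intro g hgV hg
    have hgE : g * a * g⁻¹ ∉ EE V F := by
      intro h1
      have h2 : g * a * g⁻¹ ∈ MulAut.conj g • EE V F := by rw [norm_EE hgV hg]; exact h1
      rw [mem_conj] at h2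
      have e : g⁻¹ * (g * a * g⁻¹) * g = a := by group
      rw [e] at h2
      exact haE h2
    rw [hE2, Subgroup.smul_inf, norm_EE hgV hg, conj_centralizer, norm_WA hgV hg, hν g hgV hg,
      ← hτ a ha haE _ (norm_mem hgV ha) hgE]
  have hτE : TauInv V F (EE V F) := by
    have key : ∀ b ∈ V, WA V F b (EE V F) = WW V F := by
      intro b hb
      ext s
      rw [h.mem_WA hb h.F_le_E]
      exact ⟨fun h1 => h1.1, fun hs => ⟨hs, h.c_memE hb hs⟩⟩
    intro b hb _ b' hb' _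
    rw [key b hb, key b' hb']
  obtain ⟨i, hi⟩ := hq E1 hF1 hE1 hτ hν
  obtain ⟨j, hj⟩ := hq E2 hF2 inf_le_left hτ2 hν2
  obtain ⟨k, hk⟩ := hq (EE V F) h.F_le_E le_rfl hτE fun g hgV hg => norm_EE hgV hg
  have e2 := relIndex_mul_relIndex F E2 (EE V F) hF2 inf_le_left
  rw [hE2, inf_relIndex_left (EE V F), h.relIndex_cent_WA ha haE hF1 hE1, ← hE2, hj, hk] at e2
  have hq2 := h.one_lt_relIndex
  have hjk : j ≤ k := by
    have h1 : (EE V F).relIndex V ^ j ∣ (EE V F).relIndex V ^ k := ⟨_, e2.symm⟩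
    exact (Nat.pow_dvd_pow_iff_le_right hq2).1 h1
  refine ⟨_, i, k - j, le_rfl, hi, ?_⟩
  refine Nat.eq_of_mul_eq_mul_left (pow_pos (lt_trans Nat.zero_lt_one hq2) j) ?_
  rw [e2, ← pow_add]
  congr 1
  omega

/-- the socket of `off` for `|V : E| = 2` -/
theorem socket_two [Finite G] (hq : (EE V F).relIndex V = 2) (E0 : Subgroup G) (hE : E0 ≤ EE V F) :
    ∃ k, F.relIndex E0 = (EE V F).relIndex V ^ k := by
  rw [hq]
  exact exists_pow_relIndex (h.V_isPGroup.to_le (hE.trans E_le_V))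

/-! ### COROLLARY A -/

/-- **COROLLARY A** `|Y : C_Y(W)| ≤ |W : C_W(Y)|` for `Y ≤ E`. -/
theorem off_of_le [Finite G] (hoff : ∀ E0 : Subgroup G, F ≤ E0 → E0 ≤ EE V F →
    F.relIndex E0 ≤ (centralizer (E0 : Set G)).relIndex (WW V F)) {Y : Subgroup G} (hY : Y ≤ EE V F) :
    (centralizer (WW V F : Set G)).relIndex Y ≤ (centralizer (Y : Set G)).relIndex (WW V F) := by
  have h1 := hoff (F ⊔ Y) le_sup_left (sup_le h.F_le_E hY)
  have hFY : F ≤ normalizer (Y : Set G) :=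
    (comm_mono h.comm h.F_le_V (hY.trans E_le_V)).trans (centralizer_le_normalizer _)
  have hYF : Y ≤ normalizer (F : Set G) :=
    (comm_mono h.comm (hY.trans E_le_V) h.F_le_V).trans (centralizer_le_normalizer _)
  -- `|F Y : F| = |Y : Y ∩ F|`
  have e1 : F.relIndex (F ⊔ Y) = F.relIndex Y := by
    have k1 := card_sup_mul_inf hYF
    have k2 := card_mul_relIndex' (le_sup_left : F ≤ F ⊔ Y)
    have k3 := card_mul_relIndex' (inf_le_left : Y ⊓ F ≤ Y)
    rw [inf_relIndex_left] at k3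
    rw [sup_comm, ← k2, ← k3] at k1
    have hp : 0 < Nat.card F * Nat.card ↥(Y ⊓ F) := Nat.mul_pos Nat.card_pos Nat.card_pos
    apply Nat.eq_of_mul_eq_mul_left hp
    calc Nat.card F * Nat.card ↥(Y ⊓ F) * F.relIndex (F ⊔ Y) =
        Nat.card F * F.relIndex (F ⊔ Y) * Nat.card ↥(Y ⊓ F) := by ring
      _ = _ := by rw [k1]; ring
  have e2 : (centralizer (WW V F : Set G)).relIndex Y = F.relIndex Y := by
    have k1 : Y ⊓ centralizer (WW V F : Set G) = Y ⊓ F := by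
      apply le_antisymm
      · refine le_inf inf_le_left ?_
        refine (inf_le_inf_right _ hY).trans ?_
        rw [h.cent_EW]
      · exact inf_le_inf_left _ (comm_symm W_le_X)
    rw [← inf_relIndex_left Y, k1, inf_relIndex_left]
  have e3 : WW V F ⊓ centralizer ((F ⊔ Y : Subgroup G) : Set G) = WW V F ⊓ centralizer (Y : Set G) := by
    apply le_antisymm
    · exact inf_le_inf_left _ (centralizer_le (le_sup_right : Y ≤ F ⊔ Y))
    · refine le_inf inf_le_left (comm_symm (sup_le ?_ ?_))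
      · exact comm_symm (inf_le_left.trans W_le_X)
      · exact comm_symm inf_le_right
  rw [e1, ← inf_relIndex_left (WW V F), e3, inf_relIndex_left] at h1
  rwa [e2]

/-- `W / C_W(Y)` is elementary abelian for `Y ≤ V`. -/
theorem elem_W [Finite G] {Y : Subgroup G} (hY : Y ≤ V) :
    (∀ s ∈ WW V F, ∀ t ∈ WW V F, c s t ∈ centralizer (Y : Set G)) ∧
      ∀ s ∈ WW V F, s * s ∈ centralizer (Y : Set G) := by
  have h1 : F ≤ centralizer (Y : Set G) := comm_mono h.comm h.F_le_V hY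
  exact ⟨fun s hs t ht => h1 (h.comm_WW hs ht), fun s hs => h1 (h.sq_W hs)⟩

end Hyp

end Cfsg.Agent.Omega.NOne.Flat

end

section


/-!
# LEMMA TI (text #17127, helper789)

`V ≤ L` elementary abelian; the points are the `L`-conjugates of `V`; an element `v ≠ 1` of a point normalises no
other point.  `A₁ ≠ A₂` two points, `J` the set of the `V`-type involutions interchanging `A₁` and `A₂`.

* `Tis.odd`: two `V`-type involutions of different points have a product of odd order;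
* `Tis.card_J`: `|J| = |V| - 1`;
* `Tis.dvd`: `|V| - 1` divides `|Ω'|` for every finite set `Ω'` on which `D = N_L(A₁) ∩ N_L(A₂)` acts and on which no
  `s s'` (`s ≠ s'` in `J`) has a fixed point.

Only the Z*-theorem (S0215) is used.
-/

set_option autoImplicit false

namespace Cfsg.Agent.Omega.NOne.Flat.TI

open Subgroup Cfsg.Agent.Omega.NoFF.Basic
open scoped Pointwise

universe u v

section General

variable {G : Type u} [Group G]

theorem norm_of_conj_eq {A : Subgroup G} {z : G} (h : MulAut.conj z • A = A) : z ∈ normalizer (A : Set G) := by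
  rw [mem_normalizer_iff]
  intro x
  have h1 : z * x * z⁻¹ ∈ MulAut.conj z • A ↔ x ∈ A := by
    rw [mem_conj]
    have e : z⁻¹ * (z * x * z⁻¹) * z = x := by group
    rw [e]
  rw [← h1, h]

theorem conj_eq_of_norm {A : Subgroup G} {z : G} (h : z ∈ normalizer (A : Set G)) : MulAut.conj z • A = A := by
  ext x
  rw [mem_conj]
  rw [mem_normalizer_iff] at h
  rw [h]
  have e : z * (z⁻¹ * x * z) * z⁻¹ = x := by group
  rw [e]

theorem mul_pow_of_inv {t k : G} (ht : t * t = 1) (h : t * k * t = k⁻¹) (j : ℕ) : t * k ^ j = (k ^ j)⁻¹ * t := by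
  have hi : t⁻¹ = t := inv_eq_of_mul_eq_one_left ht
  have h1 : (t * k * t⁻¹) ^ j = t * k ^ j * t⁻¹ := conj_pow
  rw [hi, h] at h1
  calc t * k ^ j = t * k ^ j * t * t := by rw [mul_assoc (t * k ^ j), ht, mul_one]
    _ = (k ^ j)⁻¹ * t := by rw [← h1, inv_pow]

/-- the central involution of a dihedral group of order divisible by 4 -/
theorem exists_invol [Finite G] {t s : G} (ht : t * t = 1) (hs : s * s = 1) (he : Even (orderOf (t * s))) :
    ∃ z ∈ zpowers (t * s), z ≠ 1 ∧ t * z = z * t ∧ s * z = z * s ∧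
      ∃ g ∈ zpowers (t * s), t * z = g * t * g⁻¹ ∨ t * z = g * s * g⁻¹ := by
  obtain ⟨m, hm⟩ := he
  set k := t * s with hk
  have hti : t⁻¹ = t := inv_eq_of_mul_eq_one_left ht
  have hsi : s⁻¹ = s := inv_eq_of_mul_eq_one_left hs
  have hki : k⁻¹ = s * t := by rw [hk, mul_inv_rev, hti, hsi]
  have htk : t * k * t = k⁻¹ := by
    rw [hki, hk, ← mul_assoc, ht, one_mul]
  have hsk : s * k * s = k⁻¹ := by
    rw [hki, hk]
    calc s * (t * s) * s = s * t * (s * s) := by group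
      _ = s * t := by rw [hs, mul_one]
  have hpos : 0 < orderOf k := orderOf_pos k
  have hzz : k ^ m * k ^ m = 1 := by rw [← pow_add, ← hm, pow_orderOf_eq_one]
  have hzi : (k ^ m)⁻¹ = k ^ m := inv_eq_of_mul_eq_one_left hzz
  refine ⟨k ^ m, pow_mem (mem_zpowers k) m, ?_, ?_, ?_, ?_⟩
  · intro h1
    have h2 := Nat.le_of_dvd (by omega) (orderOf_dvd_of_pow_eq_one h1)
    omega
  · rw [mul_pow_of_inv ht htk, hzi]
  · rw [mul_pow_of_inv hs hsk, hzi]
  · rcases Nat.even_or_odd' m with ⟨j, rfl | rfl⟩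
    · refine ⟨(k ^ j)⁻¹, inv_mem (pow_mem (mem_zpowers k) j), Or.inl ?_⟩
      rw [two_mul, pow_add, ← mul_assoc, mul_pow_of_inv ht htk, inv_inv]
    · refine ⟨(k ^ j)⁻¹, inv_mem (pow_mem (mem_zpowers k) j), Or.inr ?_⟩
      have e : t * k = s := by rw [hk, ← mul_assoc, ht, one_mul]
      have e2 : t * k ^ (2 * j + 1) = s * k ^ (2 * j) := by
        rw [pow_succ', ← mul_assoc, e]
      rw [e2, two_mul, pow_add, ← mul_assoc, mul_pow_of_inv hs hsk, inv_inv]

/-- an element inverted by an element of odd order squares to `1` -/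
theorem sq_of_inv_odd {a k : G} (h : a * k * a⁻¹ = k⁻¹) {n : ℕ} (hn : Odd n) (ha : a ^ n = 1) : k * k = 1 := by
  obtain ⟨m, rfl⟩ := hn
  have h2 : ∀ j : ℕ, a ^ (2 * j) * k * (a ^ (2 * j))⁻¹ = k := by
    intro j
    induction j with
    | zero => simp
    | succ j ih =>
      have e : a ^ (2 * (j + 1)) = a * a * a ^ (2 * j) := by
        rw [mul_add, mul_one, add_comm, pow_add, pow_two]
      rw [e]
      calc a * a * a ^ (2 * j) * k * (a * a * a ^ (2 * j))⁻¹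
          = a * (a * (a ^ (2 * j) * k * (a ^ (2 * j))⁻¹) * a⁻¹) * a⁻¹ := by group
        _ = a * k⁻¹ * a⁻¹ := by rw [ih, h]
        _ = (a * k * a⁻¹)⁻¹ := by group
        _ = k := by rw [h, inv_inv]
  have h3 : a ^ (2 * m + 1) * k * (a ^ (2 * m + 1))⁻¹ = k⁻¹ := by
    have e : a ^ (2 * m + 1) = a * a ^ (2 * m) := pow_succ' a (2 * m)
    rw [e]
    calc a * a ^ (2 * m) * k * (a * a ^ (2 * m))⁻¹
        = a * (a ^ (2 * m) * k * (a ^ (2 * m))⁻¹) * a⁻¹ := by group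
      _ = k⁻¹ := by rw [h2, h]
  rw [ha, one_mul, inv_one, mul_one] at h3
  calc k * k = k⁻¹ * k := by rw [← h3]
    _ = 1 := inv_mul_cancel k

/-- `|A \ {1}| = |A| - 1` -/
theorem card_ne_one [Finite G] (A : Subgroup G) : Nat.card {a : A // (a : G) ≠ 1} = Nat.card A - 1 := by
  classical
  have : Fintype A := Fintype.ofFinite A
  have h1 : Nat.card {a : A // (a : G) ≠ 1} = Nat.card {a : A // a ≠ 1} :=
    Nat.card_congr (Equiv.subtypeEquivRight fun a => by simp)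
  rw [h1, Nat.card_eq_fintype_card, Nat.card_eq_fintype_card, Fintype.card_subtype_compl,
    Fintype.card_subtype_eq]

/-- the number of `R`-conjugates of `t` -/
theorem card_conj_set [Finite G] (R : Subgroup G) (t : G) :
    Nat.card {s : G // ∃ g ∈ R, s = g * t * g⁻¹} = (centralizer {t}).relIndex R := by
  have key : ∀ a b : R, (a : G) * t * (a : G)⁻¹ = b * t * (b : G)⁻¹ ↔
      a⁻¹ * b ∈ (centralizer {t}).subgroupOf R := by
    intro a b
    rw [mem_subgroupOf, mem_centralizer_singleton_iff]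
    push_cast
    constructor
    · intro h
      calc (a : G)⁻¹ * b * t = (a : G)⁻¹ * (b * t * (b : G)⁻¹) * b := by group
        _ = (a : G)⁻¹ * (a * t * (a : G)⁻¹) * b := by rw [h]
        _ = t * ((a : G)⁻¹ * b) := by group
    · intro h
      calc (a : G) * t * (a : G)⁻¹ = a * (t * ((a : G)⁻¹ * b)) * (b : G)⁻¹ := by group
        _ = a * ((a : G)⁻¹ * b * t) * (b : G)⁻¹ := by rw [h]
        _ = b * t * (b : G)⁻¹ := by group
  have e : R ⧸ (centralizer {t}).subgroupOf R ≃ {s : G // ∃ g ∈ R, s = g * t * g⁻¹} := by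
    refine Equiv.ofBijective (Quotient.lift (fun a : R => (⟨a * t * (a : G)⁻¹, a, a.2, rfl⟩ :
      {s : G // ∃ g ∈ R, s = g * t * g⁻¹})) ?_) ⟨?_, ?_⟩
    · intro a b hab
      apply Subtype.ext
      exact (key a b).2 (QuotientGroup.leftRel_apply.1 hab)
    · intro x y
      refine Quotient.inductionOn₂ x y fun a b hab => ?_
      exact Quotient.sound (QuotientGroup.leftRel_apply.2 ((key a b).1 (congrArg Subtype.val hab)))
    · rintro ⟨s, g, hg, rfl⟩
      exact ⟨Quotient.mk _ ⟨g, hg⟩, rfl⟩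
  rw [← Nat.card_congr e]
  rfl

theorem dvd_card_of_orbits {R : Type u} [Group R] {Ω : Type v} [MulAction R Ω] [Finite Ω] (m : ℕ)
    (h : ∀ ω : Ω, m ∣ Nat.card (MulAction.orbit R ω)) : m ∣ Nat.card Ω := by
  classical
  have : Fintype (MulAction.orbitRel.Quotient R Ω) := Fintype.ofFinite _
  rw [Nat.card_congr (MulAction.selfEquivSigmaOrbits R Ω), Nat.card_sigma]
  exact Finset.dvd_sum fun x _ => h x.out

/-- Z*: all products of two conjugates of `t` have odd order. -/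
theorem exists_odd_normal [Finite G] {t : G} (ht : t * t = 1) (hodd : ∀ g : G, Odd (orderOf (t * (g * t * g⁻¹)))) :
    ∃ N : Subgroup G, N.Normal ∧ Odd (Nat.card N) ∧ ∀ g : G, t * g * t⁻¹ * g⁻¹ ∈ N := by
  by_cases h1 : t = 1
  · refine ⟨⊥, inferInstance, by rw [card_bot]; exact odd_one, fun g => ?_⟩
    rw [mem_bot, h1]
    group
  have : Fact (Nat.Prime 2) := ⟨Nat.prime_two⟩
  have h2 : orderOf t = 2 := orderOf_eq_prime (by rw [pow_two]; exact ht) h1
  have hp : IsPGroup 2 (zpowers t) := by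
    refine IsPGroup.of_card (n := 1) ?_
    rw [Nat.card_zpowers, h2, pow_one]
  obtain ⟨P, hP⟩ := hp.exists_le_sylow
  have htP : t ∈ P := hP (mem_zpowers t)
  refine Cfsg.Agent.S0215.result P t h2 htP fun g hg => ?_
  have h3 : t * (g * t * g⁻¹) ∈ (P : Subgroup G) := mul_mem htP hg
  obtain ⟨n, hn⟩ := P.isPGroup' ⟨_, h3⟩
  have h4 : (t * (g * t * g⁻¹)) ^ 2 ^ n = 1 := congrArg Subtype.val hn
  have h5 := orderOf_dvd_of_pow_eq_one h4
  have h6 : Nat.Coprime (orderOf (t * (g * t * g⁻¹))) (2 ^ n) :=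
    Nat.Coprime.pow_right n (Nat.coprime_two_right.2 (hodd g))
  have h7 : orderOf (t * (g * t * g⁻¹)) = 1 := Nat.Coprime.eq_one_of_dvd h6 h5
  rw [orderOf_eq_one_iff] at h7
  calc g * t * g⁻¹ = t⁻¹ * (t * (g * t * g⁻¹)) := by group
    _ = t := by rw [h7, mul_one, inv_eq_of_mul_eq_one_left ht]

/-- a `t`-invariant Sylow `r`-subgroup -/
theorem exists_sylow_inv [Finite G] {N : Subgroup G} [hN : N.Normal] (hodd : Odd (Nat.card N)) {t : G}
    (ht : t * t = 1) (r : ℕ) [Fact r.Prime] :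
    ∃ R : Subgroup G, R ≤ N ∧ IsPGroup r R ∧ (∀ g ∈ R, t * g * t⁻¹ ∈ R) ∧
      ∀ k, r ^ k ∣ Nat.card N → r ^ k ∣ Nat.card R := by
  classical
  have : Fact (Nat.Prime 2) := ⟨Nat.prime_two⟩
  have : Fintype (Sylow r N) := Fintype.ofFinite _
  let τ : MulAut N := MulAut.conjNormal t
  have hτ : τ * τ = 1 := by
    change MulAut.conjNormal t * MulAut.conjNormal t = 1
    rw [← map_mul, ht, map_one]
  let σ : Equiv.Perm (Sylow r N) := MulAction.toPerm τ
  have hσ : σ ^ 2 ^ 1 = 1 := by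
    ext1 P
    rw [pow_one, pow_two, Equiv.Perm.mul_apply]
    change τ • τ • P = P
    rw [← mul_smul, hτ, one_smul]
  obtain ⟨P₀⟩ : Nonempty (Sylow r N) := inferInstance
  have hnd : ¬ 2 ∣ Fintype.card (Sylow r N) := by
    intro h2
    have h3 : Fintype.card (Sylow r N) ∣ Nat.card N := by
      rw [← Nat.card_eq_fintype_card, Sylow.card_eq_index_normalizer P₀]
      exact index_dvd_card _
    exact (Nat.not_even_iff_odd.2 hodd) (even_iff_two_dvd.2 (h2.trans h3))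
  obtain ⟨P, hP⟩ := Equiv.Perm.exists_fixed_point_of_prime (p := 2) (n := 1) hnd hσ
  have hP' : τ • P = P := hP
  refine ⟨(P : Subgroup N).map N.subtype, map_subtype_le _, P.isPGroup'.map _, ?_, ?_⟩
  · rintro g ⟨n, hn, rfl⟩
    have h1 : τ n ∈ (τ • P : Sylow r N) := by
      change τ n ∈ ((τ • P : Sylow r N) : Subgroup N)
      rw [Sylow.pointwise_smul_def]
      exact Subgroup.smul_mem_pointwise_smul n τ _ hn
    rw [hP'] at h1
    exact ⟨τ n, h1, by rw [coe_subtype]; rfl⟩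
  · intro k hk
    rw [Nat.card_congr (((P : Subgroup N).equivMapOfInjective N.subtype (subtype_injective N)).symm.toEquiv)]
    exact P.pow_dvd_card_of_pow_dvd_card hk

end General

/-! ### TI-subgroups -/

/-- `V` is a point of `L`: an element `v ≠ 1` of `V` normalises no other point. -/
structure Tis {G : Type u} [Group G] (L V : Subgroup G) : Prop where
  le : V ≤ L
  sq : ∀ v ∈ V, v * v = 1
  ne : V ≠ ⊥
  ti : ∀ g ∈ L, ∀ v ∈ V, v ≠ 1 → v ∈ normalizer ((MulAut.conj g • V : Subgroup G) : Set G) →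
    MulAut.conj g • V = V

/-- the points -/
def Pt {G : Type u} [Group G] (L V A : Subgroup G) : Prop := ∃ g ∈ L, A = MulAut.conj g • V

/-- the `V`-type involutions mapping the point `A` to `B` -/
def J {G : Type u} [Group G] (L V A B : Subgroup G) : Set G :=
  {s | (∃ C, Pt L V C ∧ s ∈ C ∧ s ≠ 1) ∧ MulAut.conj s • A = B}

namespace Tis

variable {G : Type u} [Group G] {L V : Subgroup G} (h : Tis L V)
include h

omit h in
theorem pt_conj {A : Subgroup G} (hA : Pt L V A) {g : G} (hg : g ∈ L) : Pt L V (MulAut.conj g • A) := by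
  obtain ⟨a, ha, rfl⟩ := hA
  exact ⟨g * a, mul_mem hg ha, conj_conj g a V⟩

omit h in
theorem pt_self : Pt L V V := ⟨1, one_mem _, by rw [map_one, one_smul]⟩

theorem pt_le {A : Subgroup G} (hA : Pt L V A) : A ≤ L := by
  obtain ⟨g, hg, rfl⟩ := hA
  intro x hx
  rw [mem_conj] at hx
  have h1 := mul_mem (mul_mem hg (h.le hx)) (inv_mem hg)
  have e : g * (g⁻¹ * x * g) * g⁻¹ = x := by group
  rwa [e] at h1

theorem pt_sq {A : Subgroup G} (hA : Pt L V A) {a : G} (ha : a ∈ A) : a * a = 1 := by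
  obtain ⟨g, hg, rfl⟩ := hA
  rw [mem_conj] at ha
  have h1 := h.sq _ ha
  calc a * a = g * (g⁻¹ * a * g * (g⁻¹ * a * g)) * g⁻¹ := by group
    _ = 1 := by rw [h1]; group

omit h in
theorem pt_card {A : Subgroup G} (hA : Pt L V A) : Nat.card A = Nat.card V := by
  obtain ⟨g, hg, rfl⟩ := hA
  exact Nat.card_congr (Subgroup.equivSMul (MulAut.conj g) V).symm.toEquiv

theorem eq_of_norm {A B : Subgroup G} (hA : Pt L V A) (hB : Pt L V B) {a : G} (ha : a ∈ A) (h1 : a ≠ 1)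
    (hn : a ∈ normalizer (B : Set G)) : A = B := by
  obtain ⟨g, hg, rfl⟩ := hA
  obtain ⟨k, hk, rfl⟩ := hB
  rw [mem_conj] at ha
  have h2 : g⁻¹ * a * g ≠ 1 := by
    intro h0
    apply h1
    calc a = g * (g⁻¹ * a * g) * g⁻¹ := by group
      _ = 1 := by rw [h0]; group
  have h3 := conj_eq_of_norm hn
  have h4 : MulAut.conj (g⁻¹ * k) • V = V := by
    refine h.ti _ (mul_mem (inv_mem hg) hk) _ ha h2 (norm_of_conj_eq ?_)
    calc MulAut.conj (g⁻¹ * a * g) • MulAut.conj (g⁻¹ * k) • V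
        = MulAut.conj g⁻¹ • MulAut.conj a • MulAut.conj k • V := by
          rw [conj_conj, conj_conj, conj_conj]
          congr 2
          group
      _ = MulAut.conj (g⁻¹ * k) • V := by rw [h3, conj_conj]
  have h5 := congrArg (fun A : Subgroup G => MulAut.conj g • A) h4
  simp only [conj_conj, mul_inv_cancel_left] at h5
  exact h5.symm

theorem eq_of_mem {A B : Subgroup G} (hA : Pt L V A) (hB : Pt L V B) {a : G} (ha : a ∈ A) (h1 : a ≠ 1)
    (hb : a ∈ B) : A = B := h.eq_of_norm hA hB ha h1 (le_normalizer hb)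

theorem norm_of_comm {A : Subgroup G} (hA : Pt L V A) {a z : G} (ha : a ∈ A) (h1 : a ≠ 1) (hz : z ∈ L)
    (hc : z * a = a * z) : z ∈ normalizer (A : Set G) := by
  have h2 : a ∈ MulAut.conj z • A := by
    rw [mem_conj]
    have e : z⁻¹ * a * z = a := by
      rw [mul_assoc, ← hc]
      group
    rwa [e]
  exact norm_of_conj_eq (h.eq_of_mem (pt_conj hA hz) hA h2 h1 ha)

/-- **(1)** -/
theorem odd [Finite G] {A B : Subgroup G} (hA : Pt L V A) (hB : Pt L V B) (hne : A ≠ B) {t s : G} (ht : t ∈ A)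
    (ht1 : t ≠ 1) (hs : s ∈ B) (hs1 : s ≠ 1) : Odd (orderOf (t * s)) := by
  rw [← Nat.not_even_iff_odd]
  intro he
  have htL := h.pt_le hA ht
  have hsL := h.pt_le hB hs
  obtain ⟨z, hz, hz1, htz, hsz, g, hg, hgz⟩ := exists_invol (h.pt_sq hA ht) (h.pt_sq hB hs) he
  have hzp : zpowers (t * s) ≤ L := zpowers_le.2 (mul_mem htL hsL)
  have hzL : z ∈ L := hzp hz
  have hgL : g ∈ L := hzp hg
  obtain ⟨C, hC, htC, htz1⟩ : ∃ C, Pt L V C ∧ t * z ∈ C ∧ t * z ≠ 1 := by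
    rcases hgz with hgz | hgz
    · refine ⟨MulAut.conj g • A, pt_conj hA hgL, ?_, ?_⟩
      · rw [hgz, mem_conj]
        have e : g⁻¹ * (g * t * g⁻¹) * g = t := by group
        rwa [e]
      · rw [hgz]
        intro h0
        apply ht1
        calc t = g⁻¹ * (g * t * g⁻¹) * g := by group
          _ = 1 := by rw [h0]; group
    · refine ⟨MulAut.conj g • B, pt_conj hB hgL, ?_, ?_⟩
      · rw [hgz, mem_conj]
        have e : g⁻¹ * (g * s * g⁻¹) * g = s := by group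
        rwa [e]
      · rw [hgz]
        intro h0
        apply hs1
        calc s = g⁻¹ * (g * s * g⁻¹) * g := by group
          _ = 1 := by rw [h0]; group
  have h1 : t ∈ normalizer (C : Set G) := by
    refine h.norm_of_comm hC htC htz1 htL ?_
    calc t * (t * z) = t * (z * t) := by rw [htz]
      _ = t * z * t := by group
  have hAC : A = C := h.eq_of_norm hA hC ht ht1 h1
  have hzA : z ∈ A := by
    have h2 : t * z ∈ A := hAC ▸ htC
    exact (mul_mem_cancel_left ht).1 h2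
  exact hne (h.eq_of_norm hA hB hzA hz1 (h.norm_of_comm hB hs hs1 hzL hsz.symm))

section

variable {A₁ A₂ : Subgroup G} (h₁ : Pt L V A₁) (h₂ : Pt L V A₂) (hne : A₁ ≠ A₂)

omit h in
theorem J_ne {s : G} (hs : s ∈ J L V A₁ A₂) : s ≠ 1 := by
  obtain ⟨⟨C, -, -, h1⟩, -⟩ := hs
  exact h1

theorem J_sq {s : G} (hs : s ∈ J L V A₁ A₂) : s * s = 1 := by
  obtain ⟨⟨C, hC, hsC, -⟩, -⟩ := hs
  exact h.pt_sq hC hsC

theorem J_mem {s : G} (hs : s ∈ J L V A₁ A₂) : s ∈ L := by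
  obtain ⟨⟨C, hC, hsC, -⟩, -⟩ := hs
  exact h.pt_le hC hsC

theorem J_swap {s : G} (hs : s ∈ J L V A₁ A₂) : MulAut.conj s • A₂ = A₁ := by
  rw [← hs.2, conj_conj, h.J_sq hs, map_one, one_smul]

theorem J_mul_left {s s' : G} (hs : s ∈ J L V A₁ A₂) (hs' : s' ∈ J L V A₁ A₂) :
    MulAut.conj (s * s') • A₁ = A₁ := by
  rw [← conj_conj, hs'.2, h.J_swap hs]

theorem J_mul_right {s s' : G} (hs : s ∈ J L V A₁ A₂) (hs' : s' ∈ J L V A₁ A₂) :
    MulAut.conj (s * s') • A₂ = A₂ := by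
  rw [← conj_conj, h.J_swap hs', hs.2]

include h₂ hne in
theorem J_pt {s : G} (hs : s ∈ J L V A₁ A₂) {C : Subgroup G} (hsC : s ∈ C) : C ≠ A₂ := by
  rintro rfl
  have h1 := conj_eq_of_norm (le_normalizer hsC : s ∈ normalizer (C : Set G))
  rw [h.J_swap hs] at h1
  exact hne h1

include h₂ hne in
/-- two different elements of `J` lie in different points -/
theorem J_pt_ne {s s' : G} (hs : s ∈ J L V A₁ A₂) (hs' : s' ∈ J L V A₁ A₂) (hss : s ≠ s') {C : Subgroup G}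
    (hC : Pt L V C) (hsC : s ∈ C) : s' ∉ C := by
  intro hsC'
  have h1 : s * s' ≠ 1 := by
    intro h0
    apply hss
    calc s = s * (s' * s') := by rw [h.J_sq hs', mul_one]
      _ = s * s' * s' := by group
      _ = s' := by rw [h0, one_mul]
  have h2 := h.eq_of_norm hC h₂ (mul_mem hsC hsC') h1 (norm_of_conj_eq (h.J_mul_right hs hs'))
  exact h.J_pt h₂ hne hs hsC h2

include h₂ hne in
/-- **(4)** -/
theorem J_odd [Finite G] {s s' : G} (hs : s ∈ J L V A₁ A₂) (hs' : s' ∈ J L V A₁ A₂) : Odd (orderOf (s * s')) := by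
  by_cases hss : s = s'
  · rw [hss, h.J_sq hs', orderOf_one]
    exact odd_one
  · obtain ⟨⟨C, hC, hsC, hs1⟩, -⟩ := id hs
    obtain ⟨⟨C', hC', hsC', hs1'⟩, -⟩ := id hs'
    refine h.odd hC hC' ?_ hsC hs1 hsC' hs1'
    rintro rfl
    exact h.J_pt_ne h₂ hne hs hs' hss hC hsC hsC'

include h₂ hne in
/-- **(2)** -/
theorem key [Finite G] {s s' w : G} (hs : s ∈ J L V A₁ A₂) (hs' : s' ∈ J L V A₁ A₂) (hw : w ∈ A₂) (hw1 : w ≠ 1)
    (hc : w * (s * s') = s * s' * w) : s = s' := by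
  have hsi : s⁻¹ = s := inv_eq_of_mul_eq_one_left (h.J_sq hs)
  have hsi' : s'⁻¹ = s' := inv_eq_of_mul_eq_one_left (h.J_sq hs')
  obtain ⟨⟨C, hC, hsC, hs1⟩, -⟩ := id hs
  have h1 : Odd (orderOf (w * s)) := h.odd h₂ hC (h.J_pt h₂ hne hs hsC).symm hw hw1 hsC hs1
  have h2 : w * s * (s * s') * (w * s)⁻¹ = (s * s')⁻¹ := by
    have e1 : (s * s')⁻¹ = s' * s := by rw [mul_inv_rev, hsi, hsi']
    have hwk : w * (s' * s) = s' * s * w := by
      have h3 : w * (s * s')⁻¹ = (s * s')⁻¹ * w := by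
        calc w * (s * s')⁻¹ = (s * s')⁻¹ * (s * s' * w) * (s * s')⁻¹ := by group
          _ = (s * s')⁻¹ * (w * (s * s')) * (s * s')⁻¹ := by rw [hc]
          _ = (s * s')⁻¹ * w := by group
      rwa [e1] at h3
    calc w * s * (s * s') * (w * s)⁻¹ = w * (s * s * s' * s⁻¹) * w⁻¹ := by group
      _ = w * (s' * s) * w⁻¹ := by rw [h.J_sq hs, one_mul, hsi]
      _ = s' * s := by rw [hwk]; group
      _ = (s * s')⁻¹ := e1.symm
  have h3 := sq_of_inv_odd h2 h1 (pow_orderOf_eq_one _)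
  have h4 := h.J_odd h₂ hne hs hs'
  have h5 : orderOf (s * s') ∣ 2 := orderOf_dvd_of_pow_eq_one (by rw [pow_two]; exact h3)
  have h6 : orderOf (s * s') = 1 := by
    rcases (Nat.dvd_prime Nat.prime_two).1 h5 with h7 | h7
    · exact h7
    · rw [h7] at h4
      exact absurd h4 (by decide)
  rw [orderOf_eq_one_iff] at h6
  calc s = s * (s' * s') := by rw [h.J_sq hs', mul_one]
    _ = s * s' * s' := by group
    _ = s' := by rw [h6, one_mul]

end

/-- `V` contains an involution -/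
theorem exists_ne {A : Subgroup G} (hA : Pt L V A) : ∃ a ∈ A, a ≠ 1 := by
  obtain ⟨g, hg, rfl⟩ := hA
  obtain ⟨v, hv, hv1⟩ := V.bot_or_exists_ne_one.resolve_left h.ne
  refine ⟨g * v * g⁻¹, ?_, fun h0 => hv1 ?_⟩
  · rw [mem_conj]
    have e : g⁻¹ * (g * v * g⁻¹) * g = v := by group
    rwa [e]
  · calc v = g⁻¹ * (g * v * g⁻¹) * g := by group
      _ = 1 := by rw [h0]; group

/-- **(3)**, first half -/
theorem card_J_le [Finite G] {A₁ A₂ : Subgroup G} (h₂ : Pt L V A₂) (h₁ : Pt L V A₁) (hne : A₁ ≠ A₂) :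
    Nat.card (J L V A₁ A₂) ≤ Nat.card V - 1 := by
  obtain ⟨w, hw, hw1⟩ := h.exists_ne h₂
  have hm : ∀ s : J L V A₁ A₂, (s : G) * w * (s : G)⁻¹ ∈ A₁ ∧ (s : G) * w * (s : G)⁻¹ ≠ 1 := by
    intro s
    constructor
    · have h5 : (s : G) * w * (s : G)⁻¹ ∈ MulAut.conj (s : G) • A₂ := by
        rw [mem_conj]
        have e : (s : G)⁻¹ * (s * w * (s : G)⁻¹) * s = w := by group
        rwa [e]
      rwa [h.J_swap s.2] at h5
    · intro h0
      apply hw1
      calc w = (s : G)⁻¹ * (s * w * (s : G)⁻¹) * s := by group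
        _ = 1 := by rw [h0]; group
  let φ : J L V A₁ A₂ → {a : A₁ // (a : G) ≠ 1} := fun s => ⟨⟨_, (hm s).1⟩, (hm s).2⟩
  have hφ : Function.Injective φ := by
    intro s s' hss
    have h1 : (s : G) * w * (s : G)⁻¹ = s' * w * (s' : G)⁻¹ :=
      congrArg (fun a : {a : A₁ // (a : G) ≠ 1} => ((a : A₁) : G)) hss
    apply Subtype.ext
    have hsi : (s : G)⁻¹ = s := inv_eq_of_mul_eq_one_left (h.J_sq s.2)
    have hsi' : (s' : G)⁻¹ = s' := inv_eq_of_mul_eq_one_left (h.J_sq s'.2)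
    refine (h.key h₂ hne s'.2 s.2 hw hw1 ?_).symm
    calc w * ((s' : G) * s) = (s' : G)⁻¹ * (s' * w * (s' : G)⁻¹) * s' * (s' * s) := by group
      _ = (s' : G)⁻¹ * (s * w * (s : G)⁻¹) * s' * (s' * s) := by rw [h1]
      _ = (s' : G)⁻¹ * (s * w * (s : G)⁻¹) * (s' * s') * s := by group
      _ = (s' : G)⁻¹ * s * w := by rw [h.J_sq s'.2]; group
      _ = (s' : G) * s * w := by rw [hsi']
  have h2 := Nat.card_le_card_of_injective φ hφ
  rwa [card_ne_one, pt_card h₁] at h2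

/-- **(3)** `|J| = |V| - 1` -/
theorem card_J [Finite G] {A₁ A₂ : Subgroup G} (h₁ : Pt L V A₁) (h₂ : Pt L V A₂) (hne : A₁ ≠ A₂) :
    Nat.card (J L V A₁ A₂) = Nat.card V - 1 := by
  classical
  let I := {C : Subgroup G // Pt L V C ∧ A₁ ≠ C}
  have : Fintype I := Fintype.ofFinite I
  -- the map
  have hm : ∀ x : Σ C : I, {a : C.1 // (a : G) ≠ 1},
      Pt L V (MulAut.conj ((x.2 : x.1.1) : G) • A₁) ∧ A₁ ≠ MulAut.conj ((x.2 : x.1.1) : G) • A₁ := by
    rintro ⟨C, a⟩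
    refine ⟨pt_conj h₁ (h.pt_le C.2.1 a.1.2), fun h0 => ?_⟩
    exact C.2.2 (h.eq_of_norm C.2.1 h₁ a.1.2 a.2 (norm_of_conj_eq h0.symm)).symm
  let φ : (Σ C : I, {a : C.1 // (a : G) ≠ 1}) → (Σ C : I, J L V A₁ C.1) := fun x =>
    ⟨⟨MulAut.conj ((x.2 : x.1.1) : G) • A₁, hm x⟩, ⟨(x.2 : x.1.1), ⟨x.1.1, x.1.2.1, x.2.1.2, x.2.2⟩, rfl⟩⟩
  have hφ : Function.Injective φ := by
    rintro ⟨⟨C, hC, hC1⟩, ⟨a, ha⟩, ha1⟩ ⟨⟨C', hC', hC1'⟩, ⟨b, hb⟩, hb1⟩ hxy
    have h1 : a = b := congrArg (fun y : (Σ C : I, J L V A₁ C.1) => (y.2 : G)) hxy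
    subst h1
    have h2 : C = C' := h.eq_of_mem hC hC' ha ha1 hb
    subst h2
    rfl
  have h1 := Nat.card_le_card_of_injective φ hφ
  rw [Nat.card_sigma, Nat.card_sigma] at h1
  have h2 : ∀ C : I, Nat.card {a : C.1 // (a : G) ≠ 1} = Nat.card V - 1 := fun C => by
    rw [card_ne_one, pt_card C.2.1]
  have h3 : ∀ C ∈ (Finset.univ : Finset I), Nat.card (J L V A₁ C.1) ≤ Nat.card {a : C.1 // (a : G) ≠ 1} := by
    intro C _
    rw [h2]
    exact h.card_J_le C.2.1 h₁ C.2.2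
  have h4 := (Finset.sum_eq_sum_iff_of_le h3).1 (le_antisymm (Finset.sum_le_sum h3) h1) ⟨A₂, h₂, hne⟩
    (Finset.mem_univ _)
  rw [h2] at h4
  exact h4

/-- the stabiliser of the pair `{A₁, A₂}` -/
def pair {A₁ A₂ : Subgroup G} (_h : Tis L V) : Subgroup G where
  carrier := {g | g ∈ L ∧ ((MulAut.conj g • A₁ = A₁ ∧ MulAut.conj g • A₂ = A₂) ∨
    (MulAut.conj g • A₁ = A₂ ∧ MulAut.conj g • A₂ = A₁))}
  one_mem' := ⟨one_mem _, Or.inl ⟨by rw [map_one, one_smul], by rw [map_one, one_smul]⟩⟩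
  mul_mem' := by
    rintro a b ⟨ha, ha2⟩ ⟨hb, hb2⟩
    refine ⟨mul_mem ha hb, ?_⟩
    rw [← conj_conj, ← conj_conj]
    rcases ha2 with ⟨h1, h2⟩ | ⟨h1, h2⟩ <;> rcases hb2 with ⟨h3, h4⟩ | ⟨h3, h4⟩ <;>
      rw [h3, h4] <;> simp [h1, h2]
  inv_mem' := by
    rintro a ⟨ha, ha2⟩
    refine ⟨inv_mem ha, ?_⟩
    have key : ∀ {A B : Subgroup G}, MulAut.conj a • A = B → MulAut.conj a⁻¹ • B = A := by
      rintro A B rfl
      rw [conj_conj, inv_mul_cancel, map_one, one_smul]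
    rcases ha2 with ⟨h1, h2⟩ | ⟨h1, h2⟩
    · exact Or.inl ⟨key h1, key h2⟩
    · exact Or.inr ⟨key h2, key h1⟩

omit h in
theorem conj_pow_eq {A₁ A₂ : Subgroup G} {g : G} (h1 : MulAut.conj g • A₁ = A₂) (h2 : MulAut.conj g • A₂ = A₁)
    (m : ℕ) : MulAut.conj (g ^ (2 * m + 1)) • A₁ = A₂ := by
  induction m with
  | zero => simpa using h1
  | succ m ih =>
    have e : g ^ (2 * (m + 1) + 1) = g * g * g ^ (2 * m + 1) := by
      rw [mul_add, mul_one, show 2 * m + 2 + 1 = 2 + (2 * m + 1) by ring, pow_add, pow_two]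
    rw [e, ← conj_conj, ih, ← conj_conj, h2, h1]

/-- **(4)**: the odd normal subgroup. -/
theorem exists_N [Finite G] {A₁ A₂ : Subgroup G} (h₂ : Pt L V A₂) (hne : A₁ ≠ A₂) {t : G}
    (ht : t ∈ J L V A₁ A₂) :
    ∃ N : Subgroup G, N ≤ L ∧ Odd (Nat.card N) ∧ (∀ g ∈ N, MulAut.conj g • A₁ = A₁ ∧ MulAut.conj g • A₂ = A₂) ∧
      (∀ g ∈ N, t * g * t⁻¹ ∈ N) ∧ (∀ g ∈ N, t * g * t⁻¹ * g⁻¹ ∈ N) ∧
      (∀ s, s ∈ J L V A₁ A₂ ↔ ∃ g ∈ N, s = g * t * g⁻¹) ∧
      (∀ r : ℕ, r.Prime → ∃ R : Subgroup G, R ≤ N ∧ IsPGroup r R ∧ (∀ g ∈ R, t * g * t⁻¹ ∈ R) ∧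
        ∀ k, r ^ k ∣ Nat.card N → r ^ k ∣ Nat.card R) := by
  let X : Subgroup G := pair (A₁ := A₁) (A₂ := A₂) h
  have htX : t ∈ X := ⟨h.J_mem ht, Or.inr ⟨ht.2, h.J_swap ht⟩⟩
  have htt := h.J_sq ht
  have hti : t⁻¹ = t := inv_eq_of_mul_eq_one_left htt
  -- conjugates of `t` in `X`
  have hJX : ∀ g ∈ X, g * t * g⁻¹ ∈ J L V A₁ A₂ := by
    rintro g ⟨hgL, hg⟩
    obtain ⟨⟨C, hC, htC, ht1⟩, ht2⟩ := ht
    refine ⟨⟨MulAut.conj g • C, pt_conj hC hgL, ?_, ?_⟩, ?_⟩
    · rw [mem_conj]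
      have e : g⁻¹ * (g * t * g⁻¹) * g = t := by group
      rwa [e]
    · intro h0
      apply ht1
      calc t = g⁻¹ * (g * t * g⁻¹) * g := by group
        _ = 1 := by rw [h0]; group
    · have ht3 : MulAut.conj t • A₂ = A₁ := by
        rw [← ht2, conj_conj, htt, map_one, one_smul]
      have key : ∀ {A B : Subgroup G}, MulAut.conj g • A = B → MulAut.conj g⁻¹ • B = A := by
        rintro A B rfl
        rw [conj_conj, inv_mul_cancel, map_one, one_smul]
      rw [← conj_conj, ← conj_conj]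
      rcases hg with ⟨h3, h4⟩ | ⟨h3, h4⟩
      · rw [key h3, ht2, h4]
      · rw [key h4, ht3, h3]
  obtain ⟨N', hN', hodd, hcomm⟩ := exists_odd_normal (G := X) (t := ⟨t, htX⟩) (Subtype.ext htt) (by
    intro g
    have h5 := h.J_odd h₂ hne ht (hJX g g.2)
    rwa [← Subgroup.orderOf_coe])
  have hmem : ∀ {g : G}, g ∈ N'.map X.subtype ↔ ∃ hg : g ∈ X, (⟨g, hg⟩ : X) ∈ N' := by
    intro g
    rw [mem_map]
    constructor
    · rintro ⟨x, hx, rfl⟩
      exact ⟨x.2, hx⟩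
    · rintro ⟨hg, hx⟩
      exact ⟨_, hx, rfl⟩
  have hfix : ∀ g ∈ N'.map X.subtype, MulAut.conj g • A₁ = A₁ ∧ MulAut.conj g • A₂ = A₂ := by
    intro g hg
    obtain ⟨hgX, hgN⟩ := hmem.1 hg
    rcases hgX.2 with h5 | ⟨h5, h6⟩
    · exact h5
    · exfalso
      have h7 : orderOf (⟨g, hgX⟩ : X) ∣ Nat.card N' := by
        have h8 := orderOf_dvd_natCard (⟨⟨g, hgX⟩, hgN⟩ : N')
        rwa [← Subgroup.orderOf_coe] at h8
      have h8 : Odd (orderOf g) := by
        have h9 : Odd (orderOf (⟨g, hgX⟩ : X)) := hodd.of_dvd_nat h7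
        rwa [← Subgroup.orderOf_coe] at h9
      obtain ⟨m, hm⟩ := h8
      have h9 := conj_pow_eq h5 h6 m
      rw [← hm, pow_orderOf_eq_one, map_one, one_smul] at h9
      exact hne h9
  refine ⟨N'.map X.subtype, ?_, ?_, hfix, ?_, ?_, ?_, ?_⟩
  · intro g hg
    obtain ⟨hgX, -⟩ := hmem.1 hg
    exact hgX.1
  · rwa [Nat.card_congr ((N'.equivMapOfInjective X.subtype (subtype_injective X)).symm.toEquiv)]
  · intro g hg
    obtain ⟨hgX, hgN⟩ := hmem.1 hg
    exact hmem.2 ⟨mul_mem (mul_mem htX hgX) (inv_mem htX), hN'.conj_mem _ hgN ⟨t, htX⟩⟩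
  · intro g hg
    obtain ⟨hgX, hgN⟩ := hmem.1 hg
    exact hmem.2 ⟨mul_mem (mul_mem (mul_mem htX hgX) (inv_mem htX)) (inv_mem hgX), hcomm ⟨g, hgX⟩⟩
  · intro s
    constructor
    · intro hs
      obtain ⟨m, hm⟩ := h.J_odd h₂ hne ht hs
      set k := t * s with hk
      have hsi : s⁻¹ = s := inv_eq_of_mul_eq_one_left (h.J_sq hs)
      have hkX : k ∈ X := by
        refine mul_mem htX ?_
        exact ⟨h.J_mem hs, Or.inr ⟨hs.2, h.J_swap hs⟩⟩
      have htk : t * k * t = k⁻¹ := by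
        rw [hk, mul_inv_rev, hti, hsi, ← mul_assoc, htt, one_mul]
      have hkm : k ^ (m + 1) * k ^ (m + 1) = k := by
        rw [← pow_add, show m + 1 + (m + 1) = (2 * m + 1) + 1 by ring, ← hm, pow_succ,
          pow_orderOf_eq_one, one_mul]
      have hsk : s = (k ^ (m + 1))⁻¹ * t * k ^ (m + 1) := by
        rw [← mul_pow_of_inv htt htk, mul_assoc, hkm, hk, ← mul_assoc, htt, one_mul]
      have hk1 : k ∈ N'.map X.subtype := by
        have hgX : (k ^ (m + 1))⁻¹ ∈ X := inv_mem (pow_mem hkX _)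
        refine hmem.2 ⟨hkX, ?_⟩
        have h5 := hcomm ⟨(k ^ (m + 1))⁻¹, hgX⟩
        have e : (⟨t, htX⟩ : X) * ⟨(k ^ (m + 1))⁻¹, hgX⟩ * ⟨t, htX⟩⁻¹ * (⟨(k ^ (m + 1))⁻¹, hgX⟩)⁻¹ = ⟨k, hkX⟩ := by
          apply Subtype.ext
          push_cast
          rw [hti]
          calc t * (k ^ (m + 1))⁻¹ * t * ((k ^ (m + 1))⁻¹)⁻¹ = t * ((k ^ (m + 1))⁻¹ * t * k ^ (m + 1)) := by
                group
            _ = k := by rw [← hsk, hk]
        rwa [e] at h5
      refine ⟨(k ^ (m + 1))⁻¹, inv_mem (pow_mem hk1 _), ?_⟩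
      rw [inv_inv]
      exact hsk
    · rintro ⟨g, hg, rfl⟩
      obtain ⟨hgX, -⟩ := hmem.1 hg
      exact hJX g hgX
  · intro r hr
    have : Fact r.Prime := ⟨hr⟩
    obtain ⟨R', hR1, hR2, hR3, hR4⟩ := exists_sylow_inv (N := N') hodd (t := ⟨t, htX⟩) (Subtype.ext htt) r
    refine ⟨R'.map X.subtype, map_mono hR1, hR2.map _, ?_, ?_⟩
    · rintro g ⟨x, hx, rfl⟩
      exact ⟨_, hR3 x hx, rfl⟩
    · intro k hk
      rw [Nat.card_congr ((N'.equivMapOfInjective X.subtype (subtype_injective X)).symm.toEquiv)] at hk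
      rw [Nat.card_congr ((R'.equivMapOfInjective X.subtype (subtype_injective X)).symm.toEquiv)]
      exact hR4 k hk

/-- **LEMMA TI** -/
theorem dvd [Finite G] {A₁ A₂ : Subgroup G} (h₁ : Pt L V A₁) (h₂ : Pt L V A₂) (hne : A₁ ≠ A₂) {Ω : Type v}
    [MulAction G Ω] (Ω' : Set Ω) [Finite Ω']
    (hinv : ∀ g ∈ L, MulAut.conj g • A₁ = A₁ → MulAut.conj g • A₂ = A₂ → ∀ ω ∈ Ω', g • ω ∈ Ω')
    (hfix : ∀ s ∈ J L V A₁ A₂, ∀ s' ∈ J L V A₁ A₂, ∀ ω ∈ Ω', (s * s') • ω = ω → s = s') :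
    Nat.card V - 1 ∣ Nat.card Ω' := by
  classical
  by_cases hV : Nat.card V - 1 = 0
  · -- `|V| = 1` is impossible
    exfalso
    have h3 : Nat.card V = 1 := by
      have : 0 < Nat.card V := Nat.card_pos
      omega
    exact h.ne (Subgroup.eq_bot_of_card_eq V h3)
  have hJ := h.card_J h₁ h₂ hne
  obtain ⟨⟨t, ht⟩⟩ : Nonempty (J L V A₁ A₂) := by
    have h3 : 0 < Nat.card (J L V A₁ A₂) := by omega
    exact (Nat.card_pos_iff.1 h3).1
  obtain ⟨N, hNL, hodd, hNfix, hNt, hNc, hJN, hR⟩ := h.exists_N h₂ hne ht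
  have htt := h.J_sq ht
  have hti : t⁻¹ = t := inv_eq_of_mul_eq_one_left htt
  -- `|J| = |N : C_N(t)|`
  have hcard : (centralizer {t}).relIndex N = Nat.card V - 1 := by
    rw [← hJ, ← card_conj_set]
    exact Nat.card_congr (Equiv.subtypeEquivRight fun s => (hJN s).symm)
  refine (Nat.dvd_iff_prime_pow_dvd_dvd _ _).2 fun r a hr hra => ?_
  have : Fact r.Prime := ⟨hr⟩
  obtain ⟨R, hRN, hRp, hRt, hRS⟩ := hR r hr
  -- `r ^ a ∣ |R : C_R(t)|`
  have hra' : r ^ a ∣ (centralizer {t}).relIndex R := by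
    have hRp' : IsPGroup r ↥(R ⊓ centralizer {t}) := hRp.to_le inf_le_left
    obtain ⟨c, hc⟩ := IsPGroup.iff_card.1 hRp'
    have e1 : Nat.card ↥(R ⊓ centralizer {t}) * (centralizer {t}).relIndex R = Nat.card R := by
      rw [← inf_relIndex_left R, ← relIndex_bot_left, ← relIndex_bot_left,
        relIndex_mul_relIndex _ _ _ bot_le inf_le_left]
    have e2 : Nat.card ↥(N ⊓ centralizer {t}) * (centralizer {t}).relIndex N = Nat.card N := by
      rw [← inf_relIndex_left N, ← relIndex_bot_left, ← relIndex_bot_left,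
        relIndex_mul_relIndex _ _ _ bot_le inf_le_left]
    have h3 : r ^ c ∣ Nat.card ↥(N ⊓ centralizer {t}) := by
      rw [← hc]
      exact card_dvd_of_le (inf_le_inf_right _ hRN)
    have h4 : r ^ (c + a) ∣ Nat.card N := by
      rw [← e2, hcard, pow_add]
      exact mul_dvd_mul h3 hra
    have h5 := hRS _ h4
    rw [← e1, hc, pow_add] at h5
    exact Nat.dvd_of_mul_dvd_mul_left (pow_pos hr.pos c) h5
  -- the action of `R` on `Ω'`
  let S : SubMulAction R Ω :=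
    { carrier := Ω'
      smul_mem' := fun g {ω} hω => hinv g (hNL (hRN g.2)) (hNfix g (hRN g.2)).1 (hNfix g (hRN g.2)).2 ω hω }
  have : Finite S := (inferInstance : Finite Ω')
  change r ^ a ∣ Nat.card S
  refine dvd_card_of_orbits (R := R) (Ω := S) (r ^ a) fun ω => ?_
  -- the orbit
  obtain ⟨b, hb⟩ : ∃ b, Nat.card (MulAction.orbit R ω) = r ^ b := by
    rw [Nat.card_coe_set_eq, ← Nat.card_coe_set_eq, Nat.card_congr (MulAction.orbitEquivQuotientStabilizer R ω)]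
    exact hRp.index _
  obtain ⟨a', ha'⟩ : ∃ a', (centralizer {t}).relIndex R = r ^ a' := hRp.index _
  have hsR : ∀ s : {s : G // ∃ g ∈ R, s = g * t * g⁻¹}, t * (s : G) ∈ R := by
    rintro ⟨s, g, hg, rfl⟩
    have h3 := mul_mem (hRt g hg) (inv_mem hg)
    rw [hti] at h3
    have e : t * (g * t * g⁻¹) = t * g * t * g⁻¹ := by group
    change t * (g * t * g⁻¹) ∈ R
    rwa [e]
  have hsJ : ∀ s : {s : G // ∃ g ∈ R, s = g * t * g⁻¹}, (s : G) ∈ J L V A₁ A₂ := by
    rintro ⟨s, g, hg, rfl⟩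
    exact (hJN _).2 ⟨g, hRN hg, rfl⟩
  have hle : r ^ a' ≤ r ^ b := by
    rw [← hb, ← ha', ← card_conj_set]
    refine Nat.card_le_card_of_injective
      (fun s : {s : G // ∃ g ∈ R, s = g * t * g⁻¹} =>
        (⟨(⟨t * s, hsR s⟩ : R) • ω, MulAction.mem_orbit ω _⟩ : MulAction.orbit R ω)) ?_
    intro s s' hss
    have h3 : (⟨t * s, hsR s⟩ : R) • ω = (⟨t * s', hsR s'⟩ : R) • ω := congrArg Subtype.val hss
    have h4 : (t * (s : G)) • (ω : Ω) = (t * (s' : G)) • (ω : Ω) := congrArg Subtype.val h3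
    apply Subtype.ext
    refine (hfix s' (hsJ s') s (hsJ s) ω ω.2 ?_).symm
    have hsi' : (s' : G)⁻¹ = s' := inv_eq_of_mul_eq_one_left (h.J_sq (hsJ s'))
    have e : (s' : G) * s = (t * (s' : G))⁻¹ * (t * s) := by
      rw [mul_inv_rev, hti, hsi']
      calc (s' : G) * s = s' * (t * t) * s := by rw [htt, mul_one]
        _ = s' * t * (t * s) := by group
    rw [e, mul_smul, h4, ← mul_smul, inv_mul_cancel, one_smul]
  have h3 : r ^ a ∣ r ^ a' := by rw [← ha']; exact hra'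
  rw [hb]
  exact h3.trans (pow_dvd_pow r ((Nat.pow_le_pow_iff_right hr.one_lt).1 hle))

end Tis

end Cfsg.Agent.Omega.NOne.Flat.TI

end

section


/-!
# THEOREM LOW (#19191 helper597, #19093 helper876), the part on `Flat.Hyp`

`Hyp V F` (THEOREM FLAT), `X = C_G(F)`, `E = EE V F`, `W = WW V F`, `N = NN V F = C_W(E)`.

* `pr` **(PR)** : `A` abelian, normalised by `X` ⟹ `V ∩ A ≤ E`;
* `BH V F B` : `F ≤ B ≤ W`, `B` abelian, `X ≤ N(B)`; `I = V ∩ B`;
* `BH.I_le_E`, `BH.c_memI`, `BH.quad` **(B1)** : `I ≤ E`, `[V, B] ≤ I`, `[V, B, B] = 1`;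
* `BH.surj`, `BH.relIndex_B` **(B2)** : `[w, B] F = I` for `w ∈ V - E`, `|B : B ∩ N| = |I : F|`;
* `BH.conjI_inf_NN`, `BH.exists_conjI_mul` : `I^x ∩ N = F`, `B = I^x (B ∩ N)` for `x ∈ X` bad;
* `BH.relIndex_le_two` **(T1)** : some `w ∈ V - E` has at most one other `B`-conjugate ⟹ `|I : F| ≤ 2`;
* `BH.relIndex_V_le` : `|V : E| ≤ |I : F|` if `F < I`;
* `BH.root` **(KEY, #19093 (4))** : if `|I : F| ≤ |V : E|`, then `[r, W]` is the same group for all `r ∈ I - F`.
-/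

set_option autoImplicit false

namespace Cfsg.Agent.Omega.NOThreeL.Low.Key

open Subgroup Cfsg Cfsg.Agent.Omega.NoFF.Basic Cfsg.Agent.Omega.NOne.Frame
open Cfsg.Agent.Omega.NOne.NearFF (Near c c_def c_inv)
open Cfsg.Agent.Omega.NOne.Flat
open Cfsg.Agent.Omega.NOne.Flat.Hyp
open Cfsg.Agent.ZN (o2)
open Cfsg.Agent.MinSimple.VModule
open scoped Pointwise

universe u

variable {G : Type u} [Group G]

theorem c_eq_one' {a b : G} (h : a * b = b * a) : c a b = 1 := by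
  rw [c, h, mul_inv_cancel_right, mul_inv_cancel]

theorem comm_of_c {a b : G} (h : c a b = 1) : a * b = b * a := by
  have e : a * b = c a b * (b * a) := by rw [c]; group
  rw [e, h, one_mul]

theorem norm_conj_mem {A : Subgroup G} {x a : G} (hx : x ∈ normalizer (A : Set G)) (ha : a ∈ A) :
    x * a * x⁻¹ ∈ A := norm_mem hx ha

/-- `[w, s] ∈ A` if `w ∈ A` and `s` normalises `A`. -/
theorem c_mem_left {A : Subgroup G} {w s : G} (hw : w ∈ A) (hs : s ∈ normalizer (A : Set G)) : c w s ∈ A := by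
  have h1 : s * w⁻¹ * s⁻¹ ∈ A := norm_conj_mem hs (inv_mem hw)
  have e : c w s = w * (s * w⁻¹ * s⁻¹) := by rw [c]; group
  rw [e]
  exact mul_mem hw h1

/-- `[w, s] ∈ A` if `s ∈ A` and `w` normalises `A`. -/
theorem c_mem_right {A : Subgroup G} {w s : G} (hw : w ∈ normalizer (A : Set G)) (hs : s ∈ A) : c w s ∈ A :=
  mul_mem (norm_conj_mem hw hs) (inv_mem hs)

/-- some `x ∈ X` is bad -/
theorem exists_bad [Finite G] {V F : Subgroup G} (h : Hyp V F) : ∃ x ∈ centralizer (F : Set G), BadX V x := by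
  obtain ⟨w, hw, hwE⟩ := h.exists_not_mem
  obtain ⟨x, hx, hb, -⟩ := h.exists_near hw hwE
  exact ⟨x, hx, hb⟩

theorem conj_eq_of_norm' {x : G} {A : Subgroup G} (hx : x ∈ normalizer (A : Set G)) :
    MulAut.conj x • A = A := by
  ext y
  rw [mem_conj]
  constructor
  · intro h1
    have := norm_conj_mem hx h1
    have e : x * (x⁻¹ * y * x) * x⁻¹ = y := by group
    rwa [e] at this
  · intro h1
    have := norm_conj_mem (inv_mem hx) h1
    rwa [inv_inv] at this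

/-- **(PR)** an abelian group normalised by `X` meets `V` in a subgroup of `E`. -/
theorem pr [Finite G] {V F A : Subgroup G} (h : Hyp V F) (hA : A ≤ centralizer (A : Set G))
    (hX : centralizer (F : Set G) ≤ normalizer (A : Set G)) : V ⊓ A ≤ EE V F := by
  intro w hw
  obtain ⟨hwV, hwA⟩ := mem_inf.1 hw
  by_contra hwE
  -- every `e ∈ E` is in `(A ∩ X) F`
  have key : ∀ e ∈ EE V F, ∃ a ∈ A, a * e⁻¹ ∈ F := by
    intro e he
    obtain ⟨s, hs, hse⟩ := h.surj hwV hwE he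
    exact ⟨c w s, c_mem_left hwA (hX (W_le_X hs)), hse⟩
  -- `[E, E^x] = 1`
  have key2 : ∀ x ∈ centralizer (F : Set G), ∀ e ∈ EE V F, ∀ e' ∈ EE V F,
      e * (x * e' * x⁻¹) = x * e' * x⁻¹ * e := by
    intro x hx e he e' he'
    obtain ⟨a, ha, hae⟩ := key e he
    obtain ⟨a', ha', hae'⟩ := key e' he'
    have hXA : x * a' * x⁻¹ ∈ A := norm_conj_mem (hX hx) ha'
    -- `e = f a`, `x e' x⁻¹ = f' x a' x⁻¹`
    have hf : a * e⁻¹ ∈ F := hae
    have hf' : a' * e'⁻¹ ∈ F := hae'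
    have heX : e ∈ centralizer (F : Set G) := E_le_X he
    have heX' : x * e' * x⁻¹ ∈ centralizer (F : Set G) :=
      mul_mem (mul_mem hx (E_le_X he')) (inv_mem hx)
    have haX : a ∈ centralizer (F : Set G) := by
      have : a = a * e⁻¹ * e := by group
      rw [this]
      exact mul_mem (h.V_le_X (h.F_le_V hf)) heX
    have haX' : x * a' * x⁻¹ ∈ centralizer (F : Set G) := by
      have : x * a' * x⁻¹ = x * (a' * e'⁻¹) * x⁻¹ * (x * e' * x⁻¹) := by group
      rw [this]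
      exact mul_mem (h.V_le_X (h.F_le_V (norm_conj_mem (X_norm_F hx) hf'))) heX'
    have haa : a * (x * a' * x⁻¹) = x * a' * x⁻¹ * a := comm_of_le_centralizer hA ha hXA
    have e1 : e = (a * e⁻¹)⁻¹ * a := by group
    have e2 : x * e' * x⁻¹ = (x * (a' * e'⁻¹) * x⁻¹)⁻¹ * (x * a' * x⁻¹) := by group
    have hg : (a * e⁻¹)⁻¹ ∈ F := inv_mem hf
    have hg' : (x * (a' * e'⁻¹) * x⁻¹)⁻¹ ∈ F := inv_mem (norm_conj_mem (X_norm_F hx) hf')
    generalize (a * e⁻¹)⁻¹ = g at e1 hg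
    generalize (x * (a' * e'⁻¹) * x⁻¹)⁻¹ = g' at e2 hg'
    generalize x * a' * x⁻¹ = b at haX' haa e2
    rw [e2, e1]
    have c1 : a * g' = g' * a := (F_comm hg' haX).symm
    have c2 : b * g = g * b := (F_comm hg haX').symm
    have c3 : g * g' = g' * g := h.V_comm (h.F_le_V hg) (h.F_le_V hg')
    calc g * a * (g' * b) = g * (a * g') * b := by group
      _ = g * g' * (a * b) := by rw [c1]; group
      _ = g' * g * (b * a) := by rw [c3, haa]
      _ = g' * (g * b) * a := by group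
      _ = g' * (b * g) * a := by rw [c2]
      _ = g' * b * (g * a) := by group
  -- `W` centralises `E`
  have h3 : WW V F ≤ centralizer (EE V F : Set G) := by
    refine V_le fun x hx s hs => ?_
    obtain ⟨e', he', rfl⟩ := mem_conj'.1 hs
    rw [mem_centralizer_iff]
    exact fun e he => key2 x hx e he e' he'
  have h4 : EE V F ≤ F := (le_inf le_rfl (comm_symm h3)).trans h.cent_EW.le
  exact h.E_ne_F (le_antisymm h4 h.F_le_E)

/-- `F ≤ B ≤ W`, `B` abelian, normalised by `X = C_G(F)`. -/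
structure BH (V F B : Subgroup G) : Prop extends Hyp V F where
  le_W : B ≤ WW V F
  F_le : F ≤ B
  abel : B ≤ centralizer (B : Set G)
  norm : centralizer (F : Set G) ≤ normalizer (B : Set G)

namespace BH

variable {V F B : Subgroup G} (h : BH V F B)
include h

theorem F_le_I : F ≤ V ⊓ B := le_inf h.toHyp.F_le_V h.F_le

/-- `I ≤ E` -/
theorem I_le_E [Finite G] : V ⊓ B ≤ EE V F := pr h.toHyp h.abel h.norm

theorem B_comm {a b : G} (ha : a ∈ B) (hb : b ∈ B) : a * b = b * a := comm_of_le_centralizer h.abel ha hb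

/-- `[V, B] ≤ I` -/
theorem c_memI {w b : G} (hw : w ∈ V) (hb : b ∈ B) : c w b ∈ V ⊓ B :=
  mem_inf.2 ⟨h.toHyp.c_memV hw (h.le_W hb), c_mem_right (h.norm (h.toHyp.V_le_X hw)) hb⟩

/-- `[V, B, B] = 1` -/
theorem quad {w b b' : G} (hw : w ∈ V) (hb : b ∈ B) (hb' : b' ∈ B) : c w b * b' = b' * c w b :=
  h.B_comm (h.c_memI hw hb).2 hb'

theorem conj_B {x : G} (hx : x ∈ centralizer (F : Set G)) : MulAut.conj x • B = B :=
  conj_eq_of_norm' (h.norm hx)

theorem conjI_le_B {x : G} (hx : x ∈ centralizer (F : Set G)) : MulAut.conj x • (V ⊓ B) ≤ B := by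
  have := (conj_le_iff (g := x)).2 (inf_le_right : V ⊓ B ≤ B)
  rwa [h.conj_B hx] at this

theorem F_le_conjI {x : G} (hx : x ∈ centralizer (F : Set G)) : F ≤ MulAut.conj x • (V ⊓ B) := by
  have := (conj_le_iff (g := x)).2 h.F_le_I
  rwa [conj_eq_of_cent hx] at this

/-- `I^x ∩ N = F` for bad `x` -/
theorem conjI_inf_NN [Finite G] {x : G} (hx : x ∈ centralizer (F : Set G)) (hb : BadX V x) :
    MulAut.conj x • (V ⊓ B) ⊓ NN V F = F := by
  refine le_antisymm ?_ (le_inf (h.F_le_conjI hx) h.toHyp.F_le_NN)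
  exact (inf_le_inf_right _ ((conj_le_iff (g := x)).2 h.I_le_E)).trans (h.toHyp.conjE_inf_NN hx hb).le

/-- `w ↦ [w, b]`: the kernel of `b ↦ [w, b] F` is `B ∩ N` for `w ∈ V - E`. -/
theorem cos_B [Finite G] {w : G} (hw : w ∈ V) (hwE : w ∉ EE V F) : Cos (c w) B (NN V F) (V ⊓ B) F where
  mem := fun _ hb => h.c_memI hw hb
  iff := fun a ha b hb => by
    rw [h.toHyp.c_iff hw (h.le_W ha) (h.le_W hb),
      h.toHyp.c_mem_F_iff hw hwE (h.le_W (mul_mem (inv_mem ha) hb))]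

theorem relIndex_conjI {x : G} [Finite G] (hx : x ∈ centralizer (F : Set G)) :
    F.relIndex (MulAut.conj x • (V ⊓ B)) = F.relIndex (V ⊓ B) := by
  have e1 := card_mul_relIndex' h.F_le_I
  have e2 := card_mul_relIndex' (h.F_le_conjI hx)
  rw [NOne.Choice.card_conj, ← e1] at e2
  exact Nat.eq_of_mul_eq_mul_left Nat.card_pos e2

/-- `I^x → B / (B ∩ N)` -/
theorem cos_conjI [Finite G] {x : G} (hx : x ∈ centralizer (F : Set G)) (hb : BadX V x) :
    Cos id (MulAut.conj x • (V ⊓ B)) F B (NN V F) where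
  mem := fun _ ha => h.conjI_le_B hx ha
  iff := fun a ha b hb' => by
    refine ⟨fun h1 => ?_, fun h1 => h.toHyp.F_le_NN h1⟩
    rw [← h.conjI_inf_NN hx hb]
    exact mem_inf.2 ⟨mul_mem (inv_mem ha) hb', h1⟩

/-- **(B2)** `|B : B ∩ N| = |I : F|` -/
theorem relIndex_B [Finite G] : (NN V F).relIndex B = F.relIndex (V ⊓ B) := by
  obtain ⟨w, hw, hwE⟩ := h.toHyp.exists_not_mem
  obtain ⟨x, hx, hb⟩ := exists_bad h.toHyp
  refine le_antisymm (h.cos_B hw hwE).le ?_
  have := (h.cos_conjI hx hb).le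
  rwa [h.relIndex_conjI hx] at this

/-- **(B2)** `[w, B] F = I` for `w ∈ V - E` -/
theorem surj [Finite G] {w y : G} (hw : w ∈ V) (hwE : w ∉ EE V F) (hy : y ∈ V ⊓ B) :
    ∃ b ∈ B, (c w b)⁻¹ * y ∈ F := (h.cos_B hw hwE).surj h.relIndex_B.ge hy

/-- `B = I^x (B ∩ N)` for bad `x` -/
theorem exists_conjI_mul [Finite G] {x b : G} (hx : x ∈ centralizer (F : Set G)) (hb : BadX V x) (hbB : b ∈ B) :
    ∃ f ∈ MulAut.conj x • (V ⊓ B), f⁻¹ * b ∈ NN V F := by
  refine (h.cos_conjI hx hb).surj ?_ hbB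
  rw [h.relIndex_B, h.relIndex_conjI hx]

/-- `[w, b] ∈ F`, `w ∈ V - E` ⟹ `b ∈ N` -/
theorem mem_NN_of_c [Finite G] {w b : G} (hw : w ∈ V) (hwE : w ∉ EE V F) (hb : b ∈ B) (hc : c w b ∈ F) :
    b ∈ NN V F := (h.toHyp.c_mem_F_iff hw hwE (h.le_W hb)).1 hc

/-- `[w, b] ∈ F`, `b ∈ B - N` ⟹ `w ∈ E` -/
theorem mem_E_of_c [Finite G] {w b : G} (hw : w ∈ V) (hb : b ∈ B) (hbN : b ∉ NN V F) (hc : c w b ∈ F) :
    w ∈ EE V F := h.toHyp.mem_E_of_c hw (h.le_W hb) hbN hc

/-- **(T1)** -/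
theorem relIndex_le_two [Finite G] {w : G} (hw : w ∈ V) (hwE : w ∉ EE V F)
    (h1 : ∀ b ∈ B, ∀ b' ∈ B, b * w * b⁻¹ ≠ w → b' * w * b'⁻¹ ≠ w → b * w * b⁻¹ = b' * w * b'⁻¹) :
    F.relIndex (V ⊓ B) ≤ 2 := by
  rw [← h.relIndex_B]
  -- `b ∈ B - N` moves `w`
  have h2 : ∀ b ∈ B, b ∉ NN V F → b * w * b⁻¹ ≠ w := by
    intro b hb hbN he
    refine hbN (h.mem_NN_of_c hw hwE hb ?_)
    have : c w b = w * (b * w * b⁻¹)⁻¹ := by rw [c]; group
    rw [this, he, mul_inv_cancel]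
    exact one_mem _
  by_cases h3 : B ≤ NN V F
  · rw [relIndex_eq_one.2 h3]
    norm_num
  · obtain ⟨b, hb, hbN⟩ := SetLike.not_le_iff_exists.1 h3
    have h4 : ∀ a ∈ B, a ∉ NN V F → b⁻¹ * a ∈ NN V F := by
      intro a ha haN
      refine h.mem_NN_of_c hw hwE (mul_mem (inv_mem hb) ha) ?_
      have h5 := h1 b hb a ha (h2 b hb hbN) (h2 a ha haN)
      have h6 : (b⁻¹ * a) * w * (b⁻¹ * a)⁻¹ = w := by
        calc (b⁻¹ * a) * w * (b⁻¹ * a)⁻¹ = b⁻¹ * (a * w * a⁻¹) * b := by group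
          _ = b⁻¹ * (b * w * b⁻¹) * b := by rw [h5]
          _ = w := by group
      have : c w (b⁻¹ * a) = w * ((b⁻¹ * a) * w * (b⁻¹ * a)⁻¹)⁻¹ := by rw [c]; group
      rw [this, h6, mul_inv_cancel]
      exact one_mem _
    -- two cosets
    have h5 : (NN V F).relIndex B ≤ 2 := by
      rw [relIndex, index_eq_card]
      refine (Nat.card_le_card_of_surjective
        (fun i : Bool => if i then (QuotientGroup.mk (⟨b, hb⟩ : B) : B ⧸ (NN V F).subgroupOf B)
          else QuotientGroup.mk (1 : B)) ?_).trans (by simp)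
      intro y
      refine Quotient.inductionOn' y fun a => ?_
      by_cases ha : (a : G) ∈ NN V F
      · refine ⟨false, ?_⟩
        change (QuotientGroup.mk (1 : B) : B ⧸ (NN V F).subgroupOf B) = QuotientGroup.mk a
        rw [QuotientGroup.eq, mem_subgroupOf]
        simpa using ha
      · refine ⟨true, ?_⟩
        change (QuotientGroup.mk (⟨b, hb⟩ : B) : B ⧸ (NN V F).subgroupOf B) = QuotientGroup.mk a
        rw [QuotientGroup.eq, mem_subgroupOf]
        exact h4 a a.2 ha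
    exact h5

/-- `B ≰ N` if `F < I` -/
theorem exists_not_mem_NN [Finite G] (hI : ¬ V ⊓ B ≤ F) : ∃ b ∈ B, b ∉ NN V F := by
  by_contra hall
  push Not at hall
  have h1 : (NN V F).relIndex B = 1 := relIndex_eq_one.2 hall
  rw [h.relIndex_B, relIndex_eq_one] at h1
  exact hI h1

/-- `V / E → I / F`, `w ↦ [w, b] F`, is injective for `b ∈ B - N`. -/
theorem cos_V [Finite G] {b : G} (hb : b ∈ B) (hbN : b ∉ NN V F) :
    Cos (fun w => c w b) V (EE V F) (V ⊓ B) F where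
  mem := fun _ hw => h.c_memI hw hb
  iff := fun a ha a' ha' => by
    rw [← h.toHyp.c_inv_left ha (h.le_W hb), ← h.toHyp.c_mul_left (inv_mem ha) ha' (h.le_W hb)]
    exact ⟨fun h1 => h.mem_E_of_c (mul_mem (inv_mem ha) ha') hb hbN h1,
      fun h1 => h.toHyp.comm_EW h1 (h.le_W hb)⟩

/-- `|V : E| ≤ |I : F|` -/
theorem relIndex_V_le [Finite G] (hI : ¬ V ⊓ B ≤ F) : (EE V F).relIndex V ≤ F.relIndex (V ⊓ B) := by
  obtain ⟨b, hb, hbN⟩ := h.exists_not_mem_NN hI
  exact (h.cos_V hb hbN).le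

/-- **KEY** (#19093 (4)): if `|I : F| ≤ |V : E|`, then `[r, W] = [E, b]` for all `r ∈ I - F`, `b ∈ B - N`. -/
theorem root [Finite G] (hle : F.relIndex (V ⊓ B) ≤ (EE V F).relIndex V) {r b : G} (hr : r ∈ V ⊓ B)
    (hrF : r ∉ F) (hb : b ∈ B) (hbN : b ∉ NN V F) (y : G) :
    (∃ s ∈ WW V F, c r s = y) ↔ ∃ e ∈ EE V F, c e b = y := by
  have hbW := h.le_W hb
  obtain ⟨w, hw, hwr⟩ := (h.cos_V hb hbN).surj hle hr
  have hwE : w ∉ EE V F := by
    intro h1
    refine hrF ?_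
    have : r = c w b * ((c w b)⁻¹ * r) := by group
    rw [this]
    exact mul_mem (h.toHyp.comm_EW h1 hbW) hwr
  -- `[r, s] = [[w, b], s] = [[w, s], b]`
  have key : ∀ s ∈ WW V F, c r s = c (c w s) b := by
    intro s hs
    rw [h.toHyp.beta_comm hw hs hbW]
    exact (h.toHyp.c_congr_left (h.toHyp.c_memV hw hbW) hr.1 hs hwr).symm
  constructor
  · rintro ⟨s, hs, rfl⟩
    exact ⟨c w s, h.toHyp.c_memE hw hs, (key s hs).symm⟩
  · rintro ⟨e, he, rfl⟩
    obtain ⟨s, hs, hse⟩ := h.toHyp.surj hw hwE he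
    refine ⟨s, hs, ?_⟩
    rw [key s hs]
    refine h.toHyp.c_congr_left (h.toHyp.c_memV hw hs) he.1 hbW ?_
    exact h.toHyp.inv_mul_mem (h.toHyp.c_memV hw hs) he.1 hse

end BH

end Cfsg.Agent.Omega.NOThreeL.Low.Key

end
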