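import Cfsg.Agent.Mrg.Omega.NOne.Flat.Off
import Cfsg.Agent.Mrg.Omega.NOne.Flat.Conj
import Cfsg.Agent.Mrg.Omega.NOne.LemmaT

section


/-!
# THEOREM OFF, COROLLARIES A, B in module form (`FFThm.OffM`)

* `Hyp.offM_of_le`: `W = W_F` is an offender (module form) on every `Y ≤ E` which it does not centralise;
* `Hyp.not_le_EE`: `Y ≤ V` without offender `W`, `[Y, W] ≠ 1` ⟹ `Y ≰ E`;
* `Hyp.cent_of_le_EE`: `Y ≤ E`, `W` is no offender on `Y` ⟹ `[Y, W] = 1`, `Y ≤ F`;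
* the same for `|V : E| = 2` without the socket.
-/

set_option autoImplicit false

namespace Cfsg.Agent.Omega.NOne.Flat

open Subgroup Cfsg Cfsg.Agent.Omega.NoFF.Basic Cfsg.Agent.Omega.NOne.Frame
open Cfsg.Agent.Omega.FFThm (ElemM OffM)
open Cfsg.Agent.ZN (o2)
open scoped Pointwise

universe u

variable {G : Type u} [Group G]

namespace Hyp

variable {V F : Subgroup G} (h : Hyp V F)
include h

/-- COROLLARY A in module form. -/
theorem offM_of_le [Finite G] (hoff : ∀ E0 : Subgroup G, F ≤ E0 → E0 ≤ EE V F →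
    F.relIndex E0 ≤ (centralizer (E0 : Set G)).relIndex (WW V F)) {Y : Subgroup G} (hY : Y ≤ EE V F)
    (hW : ¬ WW V F ≤ centralizer (Y : Set G)) : OffM Y (WW V F) := by
  have hVY : centralizer (V : Set G) ≤ centralizer (Y : Set G) := centralizer_le (hY.trans E_le_V)
  have h3 := h.off_of_le hoff hY
  refine { sq := fun a ha => hVY (h.elemM_W.sq a ha),
           comm := fun a ha b hb => hVY (h.elemM_W.comm a ha b hb), ne := hW, le := ?_ }
  have e1 := card_mul_relIndex' (inf_le_left : Y ⊓ centralizer (WW V F : Set G) ≤ Y)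
  have e2 := card_mul_relIndex' (inf_le_left : WW V F ⊓ centralizer (Y : Set G) ≤ WW V F)
  rw [inf_relIndex_left] at e1 e2
  rw [← e1, ← e2]
  calc Nat.card ↥(Y ⊓ centralizer (WW V F : Set G)) * (centralizer (WW V F : Set G)).relIndex Y *
        Nat.card ↥(WW V F ⊓ centralizer (Y : Set G))
      ≤ Nat.card ↥(Y ⊓ centralizer (WW V F : Set G)) * (centralizer (Y : Set G)).relIndex (WW V F) *
        Nat.card ↥(WW V F ⊓ centralizer (Y : Set G)) :=
        Nat.mul_le_mul_right _ (Nat.mul_le_mul_left _ h3)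
    _ = _ := by ring

/-- COROLLARY B, abstract: `Y ≰ E`. -/
theorem not_le_EE [Finite G] (hoff : ∀ E0 : Subgroup G, F ≤ E0 → E0 ≤ EE V F →
    F.relIndex E0 ≤ (centralizer (E0 : Set G)).relIndex (WW V F)) {Y : Subgroup G}
    (hY : ¬ OffM Y (WW V F)) (hW : ¬ WW V F ≤ centralizer (Y : Set G)) : ¬ Y ≤ EE V F :=
  fun h1 => hY (h.offM_of_le hoff h1 hW)

/-- `Y ≤ E` without offender lies in `F` and is centralised by `W`. -/
theorem cent_of_le_EE [Finite G] (hoff : ∀ E0 : Subgroup G, F ≤ E0 → E0 ≤ EE V F →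
    F.relIndex E0 ≤ (centralizer (E0 : Set G)).relIndex (WW V F)) {Y : Subgroup G}
    (hY : ¬ OffM Y (WW V F)) (hle : Y ≤ EE V F) : WW V F ≤ centralizer (Y : Set G) ∧ Y ≤ F := by
  have hW : WW V F ≤ centralizer (Y : Set G) := by
    by_contra hW
    exact h.not_le_EE hoff hY hW hle
  refine ⟨hW, ?_⟩
  rw [← h.cent_EW]
  exact le_inf hle (comm_symm hW)

/-- `|V : E| = 2`: no socket. -/
theorem cent_of_le_EE_two [Finite G] (hq : (EE V F).relIndex V = 2) {Y : Subgroup G}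
    (hY : ¬ OffM Y (WW V F)) (hle : Y ≤ EE V F) : WW V F ≤ centralizer (Y : Set G) ∧ Y ≤ F :=
  h.cent_of_le_EE (fun _ h1 h2 => h.off_two hq h1 h2) hY hle

end Hyp

end Cfsg.Agent.Omega.NOne.Flat

end

section


/-!
# (QU) (bb OMEGA #16262, helper893): `Q_z ∩ W_F ≰ N_F` for every maximal bad `F` containing `z`

The setting of THEOREM FLAT (`Hyp V F`); `1 ≠ D ≤ F` (e.g. `D = ⟨z⟩`), `Q = O₂(C_G(D))`,
`C_{C_G(D)}(Q) ≤ Q`.  `EE V D = V ∩ Q`.

* `Hyp.EE_le`: `V ∩ Q ≤ E_F`;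
* `Hyp.not_EE_le`: `V ∩ Q ≰ F`;
* `Hyp.qu`: `QU V F D ((V ∩ Q)^x)` for every bad `x ∈ C_G(F)`;
* `Hyp.exists_qu`: there is `U` with `QU V F D U`;
* `QU`: `U ≤ Q ∩ W_F`, `U ∩ N_F ≤ F`, `[V, U] ≤ V ∩ Q`, `[w, U] F = (V ∩ Q) F` for every `w ∈ V - E_F`,
  `|U : U ∩ N_F| = |V ∩ Q : (V ∩ Q) ∩ F| ≥ 2`, `C_V(U) ≤ E_F`;
* `Hyp.cent_le`: `C_V(Q) ≤ E_F`;
* `QU.exists_mul`: if `(V ∩ Q) F = E_F` then `W_F = U N_F`;
* `Hyp.exists_qu_elem`: the same for `D = ⟨z⟩`.
-/

set_option autoImplicit false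

namespace Cfsg.Agent.Omega.NOne.Flat

open Subgroup Cfsg Cfsg.Agent.Omega.NoFF.Basic Cfsg.Agent.Omega.NOne.Frame
open Cfsg.Agent.Omega.NOne.NearFF (Near c c_def)
open Cfsg.Agent.ZN (o2)
open Cfsg.Agent.MinSimple.VModule
open scoped Pointwise

universe u

variable {G : Type u} [Group G]

theorem o2_inf_le_o2 [Finite G] {A B : Subgroup G} (hAB : A ≤ B) : o2 B ⊓ A ≤ o2 A := by
  refine le_o2 inf_le_right ((ZN.isPGroup_o2 _).to_le inf_le_left) ?_
  intro a ha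
  have h2 : a ∈ normalizer (o2 B : Set G) := le_normalizer_o2 _ (hAB ha)
  rw [mem_normalizer_iff] at h2 ⊢
  intro z
  rw [mem_inf, mem_inf, h2 z]
  refine and_congr_right fun _ => ⟨fun hz => mul_mem (mul_mem ha hz) (inv_mem ha), fun hz => ?_⟩
  have := mul_mem (mul_mem (inv_mem ha) hz) ha
  have e : a⁻¹ * (a * z * a⁻¹) * a = z := by group
  rwa [e] at this

/-- `(QU)` for `D`: the group `U` (image `U₁` in `W / N`). -/
structure QU (V F D U : Subgroup G) : Prop where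
  comm : U ≤ centralizer (U : Set G)
  sq : ∀ s ∈ U, s ^ 2 = 1
  le_Q : U ≤ o2 (centralizer (D : Set G))
  le_W : U ≤ WW V F
  le_cent : U ≤ centralizer (F : Set G)
  inf_NN : U ⊓ NN V F ≤ F
  /-- `[V, U] ≤ V ∩ Q` -/
  comm_V : ∀ v ∈ V, ∀ s ∈ U, c v s ∈ EE V D
  /-- `[w, s] ∈ F` implies `s ∈ F` -/
  inj : ∀ w ∈ V, w ∉ EE V F → ∀ s ∈ U, c w s ∈ F → s ∈ F
  /-- `[w, U] F = (V ∩ Q) F` -/
  surj : ∀ w ∈ V, w ∉ EE V F → ∀ e ∈ EE V D ⊔ F, ∃ s ∈ U, c w s * e⁻¹ ∈ F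
  relIndex : (NN V F).relIndex U = F.relIndex (EE V D)
  two_le : 2 ≤ F.relIndex (EE V D)
  /-- `C_V(U) ≤ E` -/
  cent_V : V ⊓ centralizer (U : Set G) ≤ EE V F

namespace Hyp

variable {V F : Subgroup G} (h : Hyp V F)
include h

section

variable {D : Subgroup G}

omit h in
theorem X_le_CD (hDF : D ≤ F) : centralizer (F : Set G) ≤ centralizer (D : Set G) := centralizer_le hDF

/-- **(1)** `V ∩ O₂(C_G(D)) ≤ E` -/
theorem EE_le [Finite G] (hDF : D ≤ F) : EE V D ≤ EE V F := by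
  refine le_inf inf_le_left ?_
  refine le_trans ?_ (o2_inf_le_o2 (X_le_CD hDF))
  exact le_inf inf_le_right (inf_le_left.trans h.V_le_X)

theorem QD_norm_V (hD : D ≠ ⊥) (hDF : D ≤ F) : o2 (centralizer (D : Set G)) ≤ normalizer (V : Set G) :=
  h.syl D hD (hDF.trans h.F_le_V)

theorem V_norm_QD (hDF : D ≤ F) : V ≤ normalizer (o2 (centralizer (D : Set G)) : Set G) :=
  (h.V_le_X.trans (X_le_CD hDF)).trans (le_normalizer_o2 _)

/-- **(2)** `[V, Q] ≤ V ∩ Q` -/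
theorem comm_VQ (hD : D ≠ ⊥) (hDF : D ≤ F) {v q : G} (hv : v ∈ V) (hq : q ∈ o2 (centralizer (D : Set G))) :
    c v q ∈ EE V D := comm_mem_inf (h.V_norm_QD hDF) (h.QD_norm_V hD hDF) hv hq

omit h in
theorem conj_QD (hDF : D ≤ F) {x : G} (hx : x ∈ centralizer (F : Set G)) :
    MulAut.conj x • o2 (centralizer (D : Set G)) = o2 (centralizer (D : Set G)) :=
  conj_R (X_le_CD hDF hx)

/-- **(2)** `[V^x, Q] ≤ (V ∩ Q)^x` -/
theorem comm_conjVQ (hD : D ≠ ⊥) (hDF : D ≤ F) {x v q : G} (hx : x ∈ centralizer (F : Set G))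
    (hv : v ∈ MulAut.conj x • V) (hq : q ∈ o2 (centralizer (D : Set G))) :
    c v q ∈ MulAut.conj x • EE V D := by
  rw [mem_conj] at hv ⊢
  have hq' : x⁻¹ * q * x ∈ o2 (centralizer (D : Set G)) :=
    norm_mem' (le_normalizer_o2 _ (X_le_CD hDF hx)) hq
  have h1 := h.comm_VQ hD hDF hv hq'
  have e : x⁻¹ * c v q * x = c (x⁻¹ * v * x) (x⁻¹ * q * x) := by rw [c, c]; group
  rwa [e]

/-- **(3)** `V ∩ Q ≰ F`. -/
theorem not_EE_le [Finite G] (hD : D ≠ ⊥) (hDF : D ≤ F)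
    (hc : centralizer (D : Set G) ⊓ centralizer (o2 (centralizer (D : Set G)) : Set G) ≤
      o2 (centralizer (D : Set G))) : ¬ EE V D ≤ F := by
  intro hle
  obtain ⟨w, hw, hwE⟩ := h.exists_not_mem
  obtain ⟨x, hx, hb, -⟩ := h.exists_near hw hwE
  apply hb
  let K : Subgroup G := stab (centralizer (F : Set G)) (o2 (centralizer (D : Set G))) F X_norm_F
  have hV : V ≤ K := fun v hv => ⟨h.V_le_X hv, fun q hq => hle (h.comm_VQ hD hDF hv hq)⟩
  have hV' : MulAut.conj x • V ≤ K := by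
    refine fun v hv => ⟨h.conjV_le_X hx hv, fun q hq => ?_⟩
    have h1 := h.comm_conjVQ hD hDF hx hv hq
    have h2 : MulAut.conj x • EE V D ≤ MulAut.conj x • F := conj_le_iff.2 hle
    rw [conj_eq_of_cent hx] at h2
    exact h2 h1
  have hK2 : IsPGroup 2 K := by
    rintro ⟨k, hk⟩
    have h1 : k ^ 2 ∈ o2 (centralizer (D : Set G)) := by
      refine hc (mem_inf.2 ⟨pow_mem (X_le_CD hDF hk.1) 2, ?_⟩)
      rw [mem_centralizer_iff]
      intro r hr
      have h2 := hk.2 r hr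
      set d := k * r * k⁻¹ * r⁻¹ with hd
      have h3 : d * k = k * d := F_comm h2 hk.1
      have h4 : d * d = 1 := h.sq' (h.F_le_V h2)
      have h5 : k * r * k⁻¹ = d * r := by rw [hd]; group
      have h6 : k ^ 2 * r * (k ^ 2)⁻¹ = r := by
        calc k ^ 2 * r * (k ^ 2)⁻¹ = k * (k * r * k⁻¹) * k⁻¹ := by rw [pow_two]; group
          _ = k * (d * r) * k⁻¹ := by rw [h5]
          _ = d * k * r * k⁻¹ := by rw [h3]; group
          _ = d * (k * r * k⁻¹) := by group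
          _ = d * d * r := by rw [h5]; group
          _ = r := by rw [h4, one_mul]
      calc r * k ^ 2 = (k ^ 2 * r * (k ^ 2)⁻¹) * k ^ 2 := by rw [h6]
        _ = k ^ 2 * r := by group
    obtain ⟨n, hn⟩ := ZN.isPGroup_o2 (centralizer (D : Set G)) ⟨k ^ 2, h1⟩
    refine ⟨n + 1, Subtype.ext ?_⟩
    have h2 : (k ^ 2) ^ 2 ^ n = 1 := congrArg Subtype.val hn
    change k ^ 2 ^ (n + 1) = 1
    rw [pow_succ, mul_comm, pow_mul]
    exact h2
  exact hK2.to_le (sup_le hV hV')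

/-- `(V ∩ Q)^x ≤ W` -/
theorem conjEE_le_conjE [Finite G] (hDF : D ≤ F) (x : G) :
    MulAut.conj x • EE V D ≤ MulAut.conj x • EE V F := conj_le_iff.2 (h.EE_le hDF)

omit h in
theorem conjEE_le_Q (hDF : D ≤ F) {x : G} (hx : x ∈ centralizer (F : Set G)) :
    MulAut.conj x • EE V D ≤ o2 (centralizer (D : Set G)) := by
  have := conj_le_iff (g := x) |>.2 (inf_le_right : EE V D ≤ o2 (centralizer (D : Set G)))
  rwa [conj_QD hDF hx] at this

theorem inj_conj [Finite G] (hDF : D ≤ F) {x w s : G} (hx : x ∈ centralizer (F : Set G)) (hb : BadX V x)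
    (hw : w ∈ V) (hwE : w ∉ EE V F) (hs : s ∈ MulAut.conj x • EE V D) (hc : c w s ∈ F) : s ∈ F := by
  refine h.reg hx hb hw hwE (one_mem _) (h.conjEE_le_conjE hDF x hs) ?_
  rwa [one_mul]

/-- **(4)** `s ↦ [w, s] F` maps `(V ∩ Q)^x F / F` into `(V ∩ Q) F / F`. -/
theorem cos_D [Finite G] (hD : D ≠ ⊥) (hDF : D ≤ F) {x w : G} (hx : x ∈ centralizer (F : Set G))
    (hb : BadX V x) (hw : w ∈ V) (hwE : w ∉ EE V F) :
    Cos (c w) (MulAut.conj x • EE V D) F (EE V D) F where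
  mem := fun s hs => h.comm_VQ hD hDF hw (conjEE_le_Q hDF hx hs)
  iff := fun a ha b hb' => by
    have haW : a ∈ WW V F := conjE_le_W hx (h.conjEE_le_conjE hDF x ha)
    have hbW : b ∈ WW V F := conjE_le_W hx (h.conjEE_le_conjE hDF x hb')
    rw [h.c_iff hw haW hbW]
    refine ⟨fun h1 => h.inj_conj hDF hx hb hw hwE (mul_mem (inv_mem ha) hb') h1, fun h1 => ?_⟩
    have h2 : w * (a⁻¹ * b) = a⁻¹ * b * w := (F_comm h1 (h.V_le_X hw)).symm
    rw [c, h2, mul_inv_cancel_right, mul_inv_cancel]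
    exact one_mem _

omit h in
theorem relIndex_conj_EE [Finite G] {x : G} (hx : x ∈ centralizer (F : Set G)) :
    F.relIndex (MulAut.conj x • EE V D) = F.relIndex (EE V D) := by
  have e1 := card_mul_relIndex' (inf_le_right : F ⊓ EE V D ≤ EE V D)
  have e2 := card_mul_relIndex' (inf_le_right : F ⊓ MulAut.conj x • EE V D ≤ MulAut.conj x • EE V D)
  have e3 : MulAut.conj x • (F ⊓ EE V D) = F ⊓ MulAut.conj x • EE V D := by
    rw [Subgroup.smul_inf, conj_eq_of_cent hx]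
  rw [← e3, Choice.card_conj, Choice.card_conj, ← e1, e3, inf_relIndex_right, inf_relIndex_right] at e2
  exact Nat.eq_of_mul_eq_mul_left Nat.card_pos e2

/-- **(QU)** for every bad `x ∈ C_G(F)`. -/
theorem qu [Finite G] (hD : D ≠ ⊥) (hDF : D ≤ F)
    (hc : centralizer (D : Set G) ⊓ centralizer (o2 (centralizer (D : Set G)) : Set G) ≤
      o2 (centralizer (D : Set G))) {x : G} (hx : x ∈ centralizer (F : Set G)) (hb : BadX V x) :
    QU V F D (MulAut.conj x • EE V D) := by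
  have hle : MulAut.conj x • EE V D ≤ MulAut.conj x • EE V F := h.conjEE_le_conjE hDF x
  have hnot := h.not_EE_le hD hDF hc
  have hN : (MulAut.conj x • EE V D) ⊓ NN V F ≤ F := by
    exact (inf_le_inf_right _ hle).trans (h.conjE_inf_NN hx hb).le
  have hsurj : ∀ w ∈ V, w ∉ EE V F → ∀ e ∈ EE V D ⊔ F, ∃ s ∈ MulAut.conj x • EE V D, c w s * e⁻¹ ∈ F := by
    intro w hw hwE e he
    have hcom : EE V D ≤ normalizer (F : Set G) :=
      ((inf_le_left : EE V D ≤ V).trans h.V_le_X).trans X_norm_F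
    have h3 : e ∈ ((EE V D ⊔ F : Subgroup G) : Set G) := he
    rw [Subgroup.coe_mul_of_left_le_normalizer_right _ _ hcom] at h3
    obtain ⟨a, ha, f, hf, rfl⟩ := h3
    obtain ⟨s, hs, hsa⟩ := (h.cos_D hD hDF hx hb hw hwE).surj (relIndex_conj_EE hx).ge ha
    refine ⟨s, hs, ?_⟩
    have haV : a ∈ V := (mem_inf.1 ha).1
    have hsW : s ∈ WW V F := conjE_le_W hx (hle hs)
    have e1 : c w s * (a * f)⁻¹ = (c w s)⁻¹ * a * f⁻¹ := by
      rw [h.inv (h.c_memV hw hsW), mul_inv_rev, h.inv haV, h.inv (h.F_le_V hf),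
        h.V_comm (h.F_le_V hf) haV, mul_assoc]
    change c w s * (a * f)⁻¹ ∈ F
    rw [e1]
    exact mul_mem hsa (inv_mem hf)
  have hinj : ∀ w ∈ V, w ∉ EE V F → ∀ s ∈ MulAut.conj x • EE V D, c w s ∈ F → s ∈ F :=
    fun w hw hwE s hs hc => h.inj_conj hDF hx hb hw hwE hs hc
  have hFN : F ⊓ MulAut.conj x • EE V D = NN V F ⊓ MulAut.conj x • EE V D := by
    apply le_antisymm
    · exact inf_le_inf_right _ h.F_le_NN
    · refine le_inf ?_ inf_le_right
      rw [inf_comm]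
      exact hN
  refine
    { comm := conj_le_centralizer (comm_mono h.comm inf_le_left inf_le_left)
      sq := ?_
      le_Q := conjEE_le_Q hDF hx
      le_W := hle.trans (conjE_le_W hx)
      le_cent := (hle.trans (conjE_le_W hx)).trans W_le_X
      inf_NN := hN
      comm_V := fun v hv s hs => h.comm_VQ hD hDF hv (conjEE_le_Q hDF hx hs)
      inj := hinj
      surj := hsurj
      relIndex := ?_
      two_le := ?_
      cent_V := ?_ }
  · intro s hs
    obtain ⟨y, hy, rfl⟩ := mem_conj'.1 hs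
    rw [conj_pow, h.sq y (mem_inf.1 hy).1, mul_one, mul_inv_cancel]
  · rw [← relIndex_conj_EE hx, ← inf_relIndex_right, ← hFN, inf_relIndex_right]
  · have h0 : F.relIndex (EE V D) ≠ 0 := index_ne_zero_of_finite
    have h1 : F.relIndex (EE V D) ≠ 1 := fun h1 => hnot (relIndex_eq_one.1 h1)
    omega
  · intro w hw
    obtain ⟨hw1, hw2⟩ := mem_inf.1 hw
    by_contra hwE
    refine hnot fun e he => ?_
    obtain ⟨s, hs, hse⟩ := hsurj w hw1 hwE e (mem_sup_left he)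
    have h1 : c w s = 1 := by
      rw [c, ← mem_centralizer_iff.1 hw2 s hs, mul_inv_cancel_right, mul_inv_cancel]
    rw [h1, one_mul] at hse
    have := inv_mem hse
    rwa [inv_inv] at this

/-- **(QU)**. -/
theorem exists_qu [Finite G] (hD : D ≠ ⊥) (hDF : D ≤ F)
    (hc : centralizer (D : Set G) ⊓ centralizer (o2 (centralizer (D : Set G)) : Set G) ≤
      o2 (centralizer (D : Set G))) : ∃ U : Subgroup G, QU V F D U := by
  obtain ⟨w, hw, hwE⟩ := h.exists_not_mem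
  obtain ⟨x, hx, hb, -⟩ := h.exists_near hw hwE
  exact ⟨_, h.qu hD hDF hc hx hb⟩

/-- `C_V(Q) ≤ E` -/
theorem cent_le [Finite G] (hD : D ≠ ⊥) (hDF : D ≤ F)
    (hc : centralizer (D : Set G) ⊓ centralizer (o2 (centralizer (D : Set G)) : Set G) ≤
      o2 (centralizer (D : Set G))) : V ⊓ centralizer (o2 (centralizer (D : Set G)) : Set G) ≤ EE V F := by
  obtain ⟨U, hU⟩ := h.exists_qu hD hDF hc
  exact (inf_le_inf_left _ (centralizer_le hU.le_Q)).trans hU.cent_V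

/-- `[V, Q] ≤ E`; more precisely `[V, Q] ≤ V ∩ Q ≤ E`. -/
theorem comm_VQ_E [Finite G] (hD : D ≠ ⊥) (hDF : D ≤ F) {v q : G} (hv : v ∈ V)
    (hq : q ∈ o2 (centralizer (D : Set G))) : c v q ∈ EE V F := h.EE_le hDF (h.comm_VQ hD hDF hv hq)

/-- `Q ∩ W ≰ N` -/
theorem not_Q_inf_W_le_NN [Finite G] (hD : D ≠ ⊥) (hDF : D ≤ F)
    (hc : centralizer (D : Set G) ⊓ centralizer (o2 (centralizer (D : Set G)) : Set G) ≤
      o2 (centralizer (D : Set G))) : ¬ o2 (centralizer (D : Set G)) ⊓ WW V F ≤ NN V F := by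
  obtain ⟨U, hU⟩ := h.exists_qu hD hDF hc
  intro hle
  have h1 : U ≤ NN V F := (le_inf hU.le_Q hU.le_W).trans hle
  have h2 := hU.relIndex
  rw [relIndex_eq_one.2 h1] at h2
  have := hU.two_le
  omega

end

/-- **(QU), the remark**: if `(V ∩ Q) F = E` then `W = U N`. -/
theorem exists_mul_of_qu [Finite G] {D U : Subgroup G} (hU : QU V F D U) (hE : EE V F ≤ EE V D ⊔ F)
    {s : G} (hs : s ∈ WW V F) : ∃ t ∈ U, t⁻¹ * s ∈ NN V F := by
  obtain ⟨w, hw, hwE⟩ := h.exists_not_mem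
  obtain ⟨t, ht, hts⟩ := hU.surj w hw hwE (c w s) (hE (h.c_memE hw hs))
  refine ⟨t, ht, (h.c_mem_F_iff hw hwE (mul_mem (inv_mem (hU.le_W ht)) hs)).1 ?_⟩
  rw [← h.c_iff hw (hU.le_W ht) hs, h.inv (h.c_memV hw (hU.le_W ht)), ← h.inv (h.c_memV hw hs)]
  exact hts

/-- if `(V ∩ Q) F = E` then `W ≤ (Q ∩ W) N`. -/
theorem W_le_of_qu [Finite G] {D U : Subgroup G} (hU : QU V F D U) (hE : EE V F ≤ EE V D ⊔ F) :
    WW V F ≤ (o2 (centralizer (D : Set G)) ⊓ WW V F) ⊔ NN V F := by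
  intro s hs
  obtain ⟨t, ht, hts⟩ := h.exists_mul_of_qu hU hE hs
  have e : s = t * (t⁻¹ * s) := by group
  rw [e]
  exact mul_mem (mem_sup_left (mem_inf.2 ⟨hU.le_Q ht, hU.le_W ht⟩)) (mem_sup_right hts)

omit h in
theorem centralizer_zpowers' (z : G) :
    centralizer ((zpowers z : Subgroup G) : Set G) = centralizer ({z} : Set G) := by
  apply le_antisymm
  · exact centralizer_le (by simp)
  · intro y hy
    rw [mem_centralizer_singleton_iff] at hy
    rw [mem_centralizer_iff]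
    rintro a ⟨k, rfl⟩
    exact (Commute.zpow_left (show Commute z y from hy.symm) k).eq

/-- **(QU)** for an element `1 ≠ z ∈ F`. -/
theorem exists_qu_elem [Finite G] {z : G} (hz : z ∈ F) (hz1 : z ≠ 1)
    (hc : centralizer ({z} : Set G) ⊓ centralizer (o2 (centralizer ({z} : Set G)) : Set G) ≤
      o2 (centralizer ({z} : Set G))) :
    ∃ U : Subgroup G, QU V F (zpowers z) U ∧ U ≤ o2 (centralizer ({z} : Set G)) ∧
      (∀ v ∈ V, ∀ s ∈ U, c v s ∈ V ⊓ o2 (centralizer ({z} : Set G))) ∧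
      V ⊓ centralizer (o2 (centralizer ({z} : Set G)) : Set G) ≤ EE V F := by
  have e := centralizer_zpowers' z
  have hD : zpowers z ≠ ⊥ := by rwa [Ne, zpowers_eq_bot]
  have hDF : zpowers z ≤ F := zpowers_le.2 hz
  have hc' : centralizer ((zpowers z : Subgroup G) : Set G) ⊓
      centralizer (o2 (centralizer ((zpowers z : Subgroup G) : Set G)) : Set G) ≤
      o2 (centralizer ((zpowers z : Subgroup G) : Set G)) := by
    rw [e]; exact hc
  obtain ⟨U, hU⟩ := h.exists_qu hD hDF hc'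
  have h1 := hU.le_Q
  have h2 := hU.comm_V
  have h3 := h.cent_le hD hDF hc'
  rw [EE, e] at h2
  rw [e] at h1 h3
  exact ⟨U, hU, h1, h2, h3⟩

end Hyp

end Cfsg.Agent.Omega.NOne.Flat

end
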